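import Cfsg.Agent.Omega.NO3S.TwoMid.Inn.Grp

/-!
# NO-3S TwoMid: THEOREM INN (bb #18799), the last step

* `Grp.closure_of_atoms` : if all atoms of `A^` have order 2, then `W_a` is generated by transvections of `M_b`.
-/

set_option autoImplicit false
set_option linter.unusedSectionVars false

namespace Cfsg.Agent.Omega.NO3S.TwoMid.Inn.Grp

open Subgroup Cfsg Cfsg.Agent.ZN Cfsg.Agent.MinSimple.Geo Cfsg.Agent.Omega.CaseL Cfsg.Agent.Omega.NO3S.TwoOne
  Cfsg.Agent.Omega.NO3S.Pt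
open Cfsg.Agent.Omega.NOThree.TF (Md MM pim md_MM conj_mem_ws_of_mem)
open Cfsg.Agent.Omega.NOThree.LL (Im toIm toIm_smul toIm_surj LamS UU)
open Cfsg.Agent.Omega.NOThree.LL.One (ME)
open Cfsg.Agent.Omega.NO3S.TwoMid.Inn.Geo

universe u v

variable {G : Type u} [Group G] {T V : Subgroup G} {z : G} {a b r : G}

/-- the transvections of `M_b` in `W_a` -/
def TvS (V : Subgroup G) (a b : G) : Set G :=
  {u | u ∈ ws V a ∧ ∃ c, ∀ w ∈ ws V b, u * w * u⁻¹ = w ∨ u * w * u⁻¹ = c * w}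

section

variable {M : Type v} [AddCommGroup M] [DistribMulAction (centralizer ({b} : Set G)) M] {π : G → M} [Finite G]

/-- `π [u, w] = π [u', w']` implies `[u, w] = [u', w']` -/
theorem comm_inj (h : Mid T V z a r b) (md : Md V b π) {u w : G} (hu : u ∈ ws V a)
    (hw : w ∈ ws V b) {u' w' : G} (hu' : u' ∈ ws V a) (hw' : w' ∈ ws V b)
    (e : π (u * w * u⁻¹ * w⁻¹) = π (u' * w' * u'⁻¹ * w'⁻¹)) : u * w * u⁻¹ * w⁻¹ = u' * w' * u'⁻¹ * w'⁻¹ := by
  have h1 := mem_inf.mp (h.comm_mem hu hw)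
  have h2 := mem_inf.mp (h.comm_mem hu' hw')
  rcases (md.eq_iff h.fr h.rq.right h1.2 h2.2).1 e with e | e
  · exact e
  · exfalso
    apply h.not_mem'
    have h3 := mul_mem h1.1 (inv_mem h2.1)
    rwa [e, mul_inv_cancel_right] at h3

theorem comm_eq_one (h : Mid T V z a r b) (md : Md V b π) {u w : G} (hu : u ∈ ws V a)
    (hw : w ∈ ws V b) (e : π (u * w * u⁻¹ * w⁻¹) = 0) : u * w * u⁻¹ = w := by
  have h1 := mem_inf.mp (h.comm_mem hu hw)
  rcases (md.ker _ h1.2).1 e with e | e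
  · exact mul_inv_eq_one.mp e
  · exfalso
    apply h.not_mem'
    rw [← e]
    exact h1.1

theorem mem_tvS (h : Mid T V z a r b) (md : Md V b π) {t : centralizer ({b} : Set G)} (ht : (t : G) ∈ ws V a)
    {c : M} (hc : ∀ m : M, t • m = m ∨ t • m = m + c) : (t : G) ∈ TvS V a b := by
  have hsq := h.fr.ws_sq h.rq.right
  have h2 : ∀ m : M, m + m = 0 := md.two h.fr h.rq.right
  have hsm : ∀ w ∈ ws V b, π ((t : G) * w * (t : G)⁻¹ * w⁻¹) = t • π w + π w := by
    intro w hw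
    rw [inv_eq_of_mul_eq_one_left (hsq w hw), md.map_mul _ (conj_mem_ws_of_mem t.2 hw) w hw, md.smul t w hw]
  refine ⟨ht, ?_⟩
  by_cases htr : ∀ w ∈ ws V b, (t : G) * w * (t : G)⁻¹ = w
  · exact ⟨1, fun w hw => Or.inl (htr w hw)⟩
  push Not at htr
  obtain ⟨w₀, hw₀, hne⟩ := htr
  have hne' : t • π w₀ ≠ π w₀ := by
    intro e
    exact hne (comm_eq_one h md ht hw₀ (by rw [hsm w₀ hw₀, e, h2]))
  have hc₀ : t • π w₀ = π w₀ + c := (hc _).resolve_left hne'
  refine ⟨(t : G) * w₀ * (t : G)⁻¹ * w₀⁻¹, fun w hw => ?_⟩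
  rcases hc (π w) with e | e
  · left
    exact comm_eq_one h md ht hw (by rw [hsm w hw, e, h2])
  · right
    have h3 := comm_inj h md ht hw ht hw₀ (by
      rw [hsm w hw, hsm w₀ hw₀, e, hc₀, add_right_comm, h2, zero_add, add_right_comm, h2, zero_add])
    rw [← h3]; group

theorem exists_of_closure (h : Mid T V z a r b) (md : Md V b π) {U : AddSubgroup M}
    {x : Im (centralizer ({b} : Set G)) M} (hx : x ∈ closure {t | t ∈ AI b M V a ∧ Fat.Tv (M := M) U t}) :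
    ∃ t : centralizer ({b} : Set G), (t : G) ∈ ws V a ∧ (t : G) ∈ closure (TvS V a b) ∧ toIm t = x := by
  induction hx using closure_induction with
  | mem x hx =>
    obtain ⟨hx, c, -, -, -, hc⟩ := hx
    obtain ⟨t, ht, rfl⟩ := mem_AI.1 hx
    exact ⟨t, ht, subset_closure (mem_tvS h md ht (c := c) fun m => hc m), rfl⟩
  | one => exact ⟨1, one_mem _, one_mem _, map_one _⟩
  | mul x y _ _ hx hy =>
    obtain ⟨s, h3, h4, rfl⟩ := hx
    obtain ⟨t, h5, h6, rfl⟩ := hy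
    exact ⟨s * t, mul_mem h3 h5, mul_mem h4 h6, map_mul _ _ _⟩
  | inv x _ hx =>
    obtain ⟨s, h3, h4, rfl⟩ := hx
    exact ⟨s⁻¹, inv_mem h3, inv_mem h4, map_inv _ _⟩

/-- from the image of `W_a` in `H_b` to `W_a` -/
theorem le_closure (h : Mid T V z a r b) (md : Md V b π) {U : AddSubgroup M}
    (hgen : AI b M V a ≤ closure {t | t ∈ AI b M V a ∧ Fat.Tv (M := M) U t}) : ws V a ≤ closure (TvS V a b) := by
  intro u hu
  have hub : u ∈ centralizer ({b} : Set G) := h.symm.cent hu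
  obtain ⟨t, ht, htC, e⟩ := exists_of_closure h md (hgen (mem_AI.2 ⟨⟨u, hub⟩, hu, rfl⟩))
  have h3 : ∀ m : M, ((⟨u, hub⟩ : centralizer ({b} : Set G)) * t⁻¹) • m = m := by
    intro m
    have h4 : (toIm (⟨u, hub⟩ * t⁻¹) : Im (centralizer ({b} : Set G)) M) = 1 := by
      rw [map_mul, map_inv, e, mul_inv_cancel]
    rw [← toIm_smul, h4, one_smul]
  have h5 := mem_tvS h md (t := ⟨u, hub⟩ * t⁻¹) (mul_mem hu (inv_mem ht)) (c := 0) fun m => Or.inl (h3 m)
  have h6 := mul_mem (subset_closure h5) htC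
  have e7 : (((⟨u, hub⟩ : centralizer ({b} : Set G)) * t⁻¹ : centralizer ({b} : Set G)) : G) * (t : G) = u := by
    change u * (t : G)⁻¹ * (t : G) = u
    group
  rwa [e7] at h6

end

/-- **the last step of THEOREM INN** -/
theorem closure_of_atoms [Finite G] (h : In T V z a r b) (hNO : NoM V)
    (hall : ∀ A, ME (UU V b (pim V b)) (pim V b r) A → A ≤ AH (MM V b) V a r b → Nat.card A ≤ 2) :
    ws V a ≤ closure {u | u ∈ ws V a ∧ ∃ c, ∀ w ∈ ws V b, u * w * u⁻¹ = w ∨ u * w * u⁻¹ = c * w} := by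
  have md : Md V b (pim V b) := md_MM h.fr h.rq.right
  have hfin : Finite (MM V b) := finM md
  exact le_closure h.toMid md (Fat.gen (ih h hNO) hall _ _ le_rfl (ex_AI h hNO))

end Cfsg.Agent.Omega.NO3S.TwoMid.Inn.Grp
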