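import Cfsg.Agent.Omega.NO3S.TwoMid.Inn.FiveEnd
import Cfsg.Agent.Omega.NO3S.TwoMid.Inn.Fin

/-!
# NO-3S TwoMid: (5) of helper144 #18799, first half, and THEOREM INN

* `Big V b r` : the fat point of `r` in `M_b` has more than 2 elements, in terms of points; the same for all flags;
* `atoms_two` : all atoms have order 2;
* `inn` : **THEOREM INN**.
-/

set_option autoImplicit false
set_option linter.unusedSectionVars false

namespace Cfsg.Agent.Omega.NO3S.TwoMid.Inn.FiveBeg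

open Subgroup Cfsg Cfsg.Agent.ZN Cfsg.Agent.MinSimple.Geo Cfsg.Agent.Omega.CaseL Cfsg.Agent.Omega.NO3S.TwoOne
  Cfsg.Agent.Omega.NO3S.Pt
open Cfsg.Agent.Omega.NOThree.TF (Md MM pim md_MM conj_mem_ws_of_mem)
open Cfsg.Agent.Omega.NOThree.LL (Im toIm toIm_smul toIm_surj LamS UU mem_UU line_eq NoHP sys)
open Cfsg.Agent.Omega.NOThree.LL.One (cv cm bb Sys ME Mv cm_mono)
open Cfsg.Agent.Omega.NO3S.TypeN (exists_conj_flag)
open Cfsg.Agent.Omega.NO3S.TwoMid.Inn.Geo Cfsg.Agent.Omega.NO3S.TwoMid.Inn.Grp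
open Cfsg.Agent.Omega.NO3S.TwoMid.Inn.FiveEnd

universe u

variable {G : Type u} [Group G] {T V : Subgroup G} {z : G} {a b r x y e k g : G}

/-- a point `e ∼ b` outside the line `br` with `W_b ∩ W_e = W_b ∩ W_r` -/
def Big (V : Subgroup G) (b r : G) : Prop :=
  ∃ e, Col V b e ∧ e ≠ b ∧ e ≠ r ∧ e ≠ b * r ∧ ws V b ⊓ ws V e = ws V b ⊓ ws V r

theorem Big.conj (h : Big V b r) (g : G) : Big V (g * b * g⁻¹) (g * r * g⁻¹) := by
  obtain ⟨e, h1, h2, h3, h4, h5⟩ := h
  refine ⟨g * e * g⁻¹, h1.conj g, TypeN.cne h2, TypeN.cne h3, ?_, ?_⟩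
  · rw [← TypeN.cmul]
    exact TypeN.cne h4
  · rw [← cj_ws, ← cj_ws, ← cj_ws, ← Cfsg.Agent.MinSimple.Geo.cj_inf, ← Cfsg.Agent.MinSimple.Geo.cj_inf, h5]

/-- the same for all flags -/
theorem Big.all (hf : Fr T V z) (h : Big V b r) (h1 : Col V b r) (hn : r ≠ b) {b' r' : G} (h2 : Col V b' r')
    (hn' : r' ≠ b') : Big V b' r' := by
  obtain ⟨g, e1, e2⟩ := exists_conj_flag hf h1 hn h2 hn'
  rw [← e1, ← e2]
  exact h.conj g

/-- `W_b ∩ W_e = W_b ∩ W_r` implies `U_{π e} = U_{π r}` -/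
theorem UU_eq [Finite G] (h : Fr T V z) (hx : Col V b x) (hxb : x ≠ b) (hy : Col V b y) (hyb : y ≠ b)
    (he : ws V b ⊓ ws V x = ws V b ⊓ ws V y) : UU V b (pim V b) (pim V b x) = UU V b (pim V b) (pim V b y) := by
  have md := md_MM (p := b) h hx.left
  ext m
  rw [mem_UU' h md hx hxb, mem_UU' h md hy hyb, he]

/-- `Big` implies `|kk| > 2` -/
theorem Big.card [Finite G] (hf : Fr T V z) (h : Big V b r) (hbr : Col V b r) (hrb : r ≠ b)
    (s : Sys (Im (centralizer ({b} : Set G)) (MM V b)) (LamS V b (pim V b)) (UU V b (pim V b))) :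
    2 < Nat.card (Fat.kk s (pim V b r)) := by
  have md : Md V b (pim V b) := md_MM hf hbr.left
  have hfin : Finite (MM V b) := finM md
  obtain ⟨e, h1, h2, h3, h4, h5⟩ := h
  have hl : pim V b r ∈ LamS V b (pim V b) := ⟨r, hbr, hrb, rfl⟩
  have hLe : pim V b e ∈ LamS V b (pim V b) := ⟨e, h1, h2, rfl⟩
  have h6 : pim V b r ∈ Fat.kk s (pim V b r) := Fat.lam_mem_kk s hl
  have h7 : pim V b e ∈ Fat.kk s (pim V b r) := Or.inr ⟨hLe, UU_eq hf h1 h2 hbr hrb h5⟩
  have hr0 : pim V b r ≠ 0 := fun e1 => s.ne (e1 ▸ hl)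
  have he0 : pim V b e ≠ 0 := fun e1 => s.ne (e1 ▸ hLe)
  have her : pim V b e ≠ pim V b r := by
    intro e1
    rcases (md.eq_iff hf hbr.left (hf.mem_ws_of_col h1) (hf.mem_ws_of_col hbr)).1 e1 with e2 | e2
    · exact h3 e2
    · exact h4 e2
  by_contra hc
  push Not at hc
  have h8 : ({0, pim V b r, pim V b e} : Set (MM V b)) ⊆ (Fat.kk s (pim V b r) : Set (MM V b)) := by
    rintro m (rfl | rfl | rfl)
    · exact AddSubgroup.zero_mem _
    · exact h6
    · exact h7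
  have h9 := Set.ncard_le_ncard h8 (Set.toFinite _)
  have h10 : ({0, pim V b r, pim V b e} : Set (MM V b)).ncard = 3 := by
    rw [Set.ncard_eq_succ]
    refine ⟨0, {pim V b r, pim V b e}, ?_, rfl, ?_⟩
    · rintro (e1 | e1)
      · exact hr0 e1.symm
      · exact he0 e1.symm
    · exact Set.ncard_pair (Ne.symm her)
  rw [h10] at h9
  have h11 : (Fat.kk s (pim V b r) : Set (MM V b)).ncard = Nat.card (Fat.kk s (pim V b r)) := rfl
  omega

/-- a subgroup with more than two elements contains an element different from `0` and `λ` -/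
theorem exists_third {M : Type*} [AddCommGroup M] {K : AddSubgroup M} (lam : M) (hc : 2 < Nat.card K) :
    ∃ κ ∈ K, κ ≠ 0 ∧ κ ≠ lam := by
  by_contra h
  push Not at h
  have h1 : (K : Set M) ⊆ {0, lam} := by
    intro m hm
    by_cases h2 : m = 0
    · exact Or.inl h2
    · exact Or.inr (h m hm h2)
  have h2 := Set.ncard_le_ncard h1 (Set.toFinite _)
  have h3 : ({0, lam} : Set M).ncard ≤ 2 := by
    have h5 := Set.ncard_insert_le (0 : M) {lam}
    rwa [Set.ncard_singleton] at h5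
  have h4 : (K : Set M).ncard = Nat.card K := rfl
  omega

/-- **#18799 (5)** : all atoms have order 2 -/
theorem atoms_two [Finite G] (h : In T V z a r b) (hNO : NoM V) : ∀ A, ME (UU V b (pim V b)) (pim V b r) A →
    A ≤ AH (MM V b) V a r b → Nat.card A ≤ 2 := by
  intro A me hA
  by_contra hc
  push Not at hc
  have hf := h.fr
  have hbb : Col V b b := h.rq.right
  have hbr : Col V b r := h.rq.symm
  have hrb : r ≠ b := h.ne_rq
  have md : Md V b (pim V b) := md_MM hf hbb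
  have hfin : Finite (MM V b) := finM md
  have i := ih h hNO
  obtain ⟨-, h1, h2, -⟩ := Fat.big i me hA hc
  obtain ⟨κ, hκ, hκ0, hκl⟩ := exists_third (pim V b r) (K := Fat.kk i.s (pim V b r)) (by omega)
  have h3 : κ ∈ cm (MM V b) (AH (MM V b) V a r b) := cm_mono hA (h1 hκ)
  obtain ⟨e, he, rfl⟩ := exists_of_cm_AH h md i.s h3
  have he3 := h.dr_le he
  rcases hκ with e1 | ⟨⟨x, hx, hxb, hxe⟩, hU⟩
  · exact hκ0 e1
  obtain ⟨hbe, heb⟩ := col_of_pi hf md hx hxb he3.2 hxe.symm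
  have hinf := inf_eq_of_UU hf hbe heb hbr hrb hU
  have her : e ≠ r := fun e1 => hκl (by rw [e1])
  have hBig : Big V b r := ⟨e, hbe, heb, her, fun e1 => hκl ((md.eq_iff hf hbb he3.2 (hf.mem_ws_of_col hbr)).2
    (Or.inr e1)), hinf⟩
  have hea : Col V e a := h.col_a he3 hbe
  have he' : In T V z a e b :=
    { fr := h.fr
      mn := h.mn
      pr := hea.symm
      rq := hbe.symm
      ne := h.ne
      inn := by
        have h4 : rr V a b ≤ ws V b ⊓ ws V r := le_inf (h.rr_le.trans inf_le_right) h.inn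
        rw [← hinf] at h4
        exact h4.trans inf_le_right }
  refine five_end h he' her hNO hinf fun a' r' b' h' A' me' hA' => ?_
  have md' : Md V b' (pim V b') := md_MM h'.fr h'.rq.right
  have hfin' : Finite (MM V b') := finM md'
  have hB' := hBig.all hf hbr hrb h'.rq.symm h'.ne_rq
  obtain ⟨f, g, x⟩ := Fat.exists_fy (ih h' hNO) me' hA'
  exact (hB'.card h'.fr h'.rq.symm h'.ne_rq x.i.s).trans_le (Fat.Fy'.card_le_atom x)

/-- **THEOREM INN** (bb #18799) -/
theorem inn [Finite G] (h : Mid T V z a r b) (hNO : NoM V) (hr : rr V a b ≤ ws V r) :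
    ws V a ≤ closure {u | u ∈ ws V a ∧ ∃ c, ∀ w ∈ ws V b, u * w * u⁻¹ = w ∨ u * w * u⁻¹ = c * w} :=
  have h' : In T V z a r b := { h with inn := hr }
  closure_of_atoms h' hNO (atoms_two h' hNO)

end Cfsg.Agent.Omega.NO3S.TwoMid.Inn.FiveBeg
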