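import Cfsg.Agent.Omega.NO3S.TwoMid.Inn.Three

/-!
# NO-3S TwoMid: inner pairs, (4) fat points (helper144, bb #18799)

`kk lam = {ν ∈ Λ | U_ν = U_λ} ∪ {0}`. For an atom `A ≤ Ah` of order `≥ 4`: `kk ≤ [M, A]`, `U_λ = kk ⊕ (U_λ ∩ U_μ)`,
`|kk| = |A|`; for every atom `|kk| ≤ |A|`. If all atoms have order 2, every exact `X ≤ Ah` is generated by
transvections.
-/

set_option autoImplicit false
set_option linter.unusedSectionVars false

namespace Cfsg.Agent.Omega.NO3S.TwoMid.Inn.Fat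

open Cfsg.Agent.Omega.NOThree.LL.One
open Cfsg.Agent.Omega.NOThree.LL.One.Fx (card_eq_of_smul smul_sub_conj f'_sq card_Z f'_f')
open Cfsg.Agent.Omega.NO3S.TwoMid.Inn.Reg

variable {H : Type*} {M : Type*} [Group H] [AddCommGroup M] [DistribMulAction H M]
variable [Finite H] [Finite M] {Lam : Set M} {U : M → AddSubgroup M} {lam : M} {Ah A X : Subgroup H} {f h : H}

theorem U_smul (s : Sys H Lam U) {ν : M} (k : H) (hk : ∀ u ∈ U ν, k • u ∈ U ν) {ν' : M}
    (hν' : ν' ∈ Lam) (e : U ν' = U ν) : U (k • ν') = U ν := by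
  refine (AddSubgroup.eq_of_le_of_card_ge (fun u hu => ?_) ?_)
  · have h1 := s.mem_smul k hν' hu
    rw [e] at h1
    have h2 := hk _ h1
    rwa [smul_inv_smul] at h2
  · rw [card_U s hν' k, e]

include H in
theorem notMem_zm (s : Sys H Lam U) {ν ν' : M} (hν' : ν' ∈ Lam) (hne : ν' ≠ ν) : ν' ∉ AddSubgroup.zmultiples ν := by
  intro h1
  rcases mem_zm s h1 with h2 | h2
  · exact s.ne (h2 ▸ hν')
  · exact hne h2

/-- the fat point `K_λ` -/
def kk (s : Sys H Lam U) (lam : M) : AddSubgroup M where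
  carrier := {ν | ν = 0 ∨ (ν ∈ Lam ∧ U ν = U lam)}
  add_mem' := by
    rintro ν ν' (rfl | ⟨h1, h2⟩) h'
    · rwa [zero_add]
    rcases h' with rfl | ⟨h3, h4⟩
    · rw [add_zero]; exact Or.inr ⟨h1, h2⟩
    by_cases he : ν' = ν
    · left; rw [he, s.two]
    right
    obtain ⟨φ, h5, h6⟩ := exists_fun s.two (notMem_zm s h3 he)
    obtain ⟨k, hk, h7⟩ := s.f2 h1 φ (h5 _ (AddSubgroup.mem_zmultiples ν))
    have hkU : ∀ u ∈ U ν, k • u ∈ U ν := by
      intro u hu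
      have := s.conj k h1 hu
      rwa [hk] at this
    have h8 : ν' ∈ U ν := by rw [h2, ← h4]; exact s.mem h3
    have h9 : k • ν' = ν + ν' := by rw [(h7 ν' h8).2 (by rw [h6]; decide), add_comm]
    rw [← h9]
    exact ⟨s.smul k h3, (U_smul s k hkU h3 (h4.trans h2.symm)).trans h2⟩
  zero_mem' := Or.inl rfl
  neg_mem' := by
    intro ν hν
    rw [s.neg_eq]
    exact hν

theorem mem_kk {s : Sys H Lam U} {lam ν : M} : ν ∈ kk s lam ↔ ν = 0 ∨ (ν ∈ Lam ∧ U ν = U lam) := Iff.rfl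

theorem kk_le (s : Sys H Lam U) : kk s lam ≤ U lam := by
  rintro ν (rfl | ⟨h1, h2⟩)
  · exact (U lam).zero_mem
  · rw [← h2]; exact s.mem h1

theorem lam_mem_kk (s : Sys H Lam U) (hl : lam ∈ Lam) : lam ∈ kk s lam := Or.inr ⟨hl, rfl⟩

/-- `K_λ ∩ U_μ = 0` -/
theorem kk_disj (i : Ih Lam U lam Ah) (v : Mv Lam U lam f h) : kk i.s lam ⊓ (U lam ⊓ U (h • lam)) = ⊥ := by
  rw [eq_bot_iff]
  rintro ν ⟨h1, h2⟩
  rcases h1 with h1 | ⟨h1, h3⟩
  · exact h1
  · exfalso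
    have h4 := i.col h1 (i.s.smul h i.hl) h2.2
    rw [h3] at h4
    exact v.fmov i.s (bb_fix v.hf h4)

namespace Fy'

theorem card_le_atom (x : Fy Lam U lam Ah A f h) : Nat.card (kk x.i.s lam) ≤ Nat.card A := by
  have h1 := card_sup_of_disj (kk_disj x.i x.v)
  have h2 := card_le (sup_le (kk_le x.i.s) inf_le_left : kk x.i.s lam ⊔ (U lam ⊓ U (h • lam)) ≤ U lam)
  rw [h1, ← x.card_A.1] at h2
  exact Nat.le_of_mul_le_mul_right h2 Nat.card_pos

/-- `A#` moves `μ` -/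
theorem smul_ne (x : Fy Lam U lam Ah A f h) {a : H} (ha : a ∈ A) (ha1 : a ≠ 1) : a • h • lam ≠ h • lam := by
  intro h1
  have h2 : a ∈ ca (h • lam) A := ⟨ha, h1⟩
  rw [x.ca_eq_bot, Subgroup.mem_bot] at h2
  exact ha1 h2

/-- every `a ∈ A#` gives a fat point `ν_a ≡ [μ, a]` mod `D`. -/
theorem exists_fat (x : Fy Lam U lam Ah A f h) (hlam : lam ∈ cm M A) {a : H} (ha : a ∈ A) (ha1 : a ≠ 1) :
    ∃ ν ∈ kk x.i.s lam, ν ∈ cm M A ∧ ν - (a • h • lam - h • lam) ∈ U lam ⊓ U (h • lam) := by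
  have s := x.i.s
  have hl := x.i.hl
  have hmu := x.v.mu s
  set w := a • h • lam - h • lam with hw
  have hwU : w ∈ U lam := bb_sub (x.me.le ha) _
  have hwD : w ∉ U lam ⊓ U (h • lam) := fun h1 => smul_ne x ha ha1 (x.z.two_i (x.hA ha) h1)
  -- `u = f' w`
  have huU : (h * f) • w ∈ U (h • lam) := by
    have := s.conj (h * f) hl hwU
    rwa [x.v.f'_lam s] at this
  have huD : (h * f) • w ∉ U lam ⊓ U (h • lam) := by
    intro h1
    have h2 := x.v.f'_D s h1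
    rw [f'_f' s x.v] at h2
    exact hwD (h2 ▸ h1)
  set u := (h * f) • w with hu
  -- `[u, A] + D = U_λ`
  have h1 : cs (U lam) u A x.me.le ⊓ (U lam ⊓ U (h • lam)) = ⊥ := by
    rw [eq_bot_iff]
    rintro r ⟨⟨b, hb, rfl⟩, h2⟩
    rw [AddSubgroup.mem_bot]
    by_cases hb1 : b = 1
    · rw [hb1, one_smul, sub_self]
    · exact absurd (x.reg hb hb1 huU h2) huD
  have h2 : ca u A = ⊥ := by
    rw [eq_bot_iff]
    rintro b ⟨hb, h3⟩
    rw [Subgroup.mem_bot]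
    by_contra hb1
    have h4 := x.i.cv_eq x.hA x.me hb hb1 h3
    have h5 : u ∈ U (h • lam) ⊓ cv M A := ⟨huU, h4⟩
    rw [x.cvD] at h5
    exact huD h5
  have h3 := card_cs (m := u) x.me.le
  rw [h2, Subgroup.card_bot, one_mul] at h3
  have h4 : cs (U lam) u A x.me.le ⊔ (U lam ⊓ U (h • lam)) = U lam := by
    refine eq_of_card_le (sup_le cs_le inf_le_left) ?_
    rw [card_sup_of_disj h1, ← h3, x.card_A.1]
  have h5 : lam ∈ cs (U lam) u A x.me.le ⊔ (U lam ⊓ U (h • lam)) := by rw [h4]; exact s.mem hl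
  rw [AddSubgroup.mem_sup] at h5
  obtain ⟨_, ⟨a', ha', rfl⟩, d, hd, h6⟩ := h5
  -- `ν = b' a μ`, `b' = f' a' f'⁻¹`
  have hb' : (h * f) * a' * (h * f)⁻¹ ∈ (bb (U (h • lam)) : Subgroup H) := by
    have := s.bb_conj (h * f) hl (x.me.le ha')
    rwa [x.v.f'_lam s] at this
  have h7 : ((h * f) * a' * (h * f)⁻¹) • w - w = h • lam - d := by
    have h8 : (h * f) • (a' • u - u) = ((h * f) * a' * (h * f)⁻¹) • w - w := by
      rw [smul_sub_conj, hu, f'_f' s x.v]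
    have h9 : (h * f) • (lam - d) = h • lam - d := by rw [smul_sub, x.v.f'_lam s, x.v.f'_D s hd]
    rw [← h8, ← h9, ← h6, add_sub_cancel_right]
  have hdA : d ∈ cm M A := by
    have h8 : d = lam - (a' • u - u) := by rw [← h6, add_sub_cancel_left]
    rw [h8]
    exact (cm M A).sub_mem hlam (sub_mem_cm ha' u)
  have h9 : ((h * f) * a' * (h * f)⁻¹) • a • h • lam = w + d := by
    have h10 : a • h • lam = w + h • lam := by rw [hw, sub_add_cancel]
    rw [h10, smul_add, bb_fix hb' (s.mem hmu), sub_eq_iff_eq_add.1 h7]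
    have h11 : h • lam - d + w + h • lam = w - d + (h • lam + h • lam) := by abel
    rw [h11, s.two, add_zero, s.sub_eq]
  have hν : ((h * f) * a' * (h * f)⁻¹) • a • h • lam ∈ Lam := s.smul _ (s.smul _ hmu)
  have hνA : w + d ∈ cm M A := (cm M A).add_mem (sub_mem_cm ha _) hdA
  refine ⟨w + d, Or.inr ⟨h9 ▸ hν, ?_⟩, hνA, by rw [add_sub_cancel_left]; exact hd⟩
  have h12 : U (w + d) ≤ U lam := by
    intro r hr
    have h13 : r ∈ cv M A := fun b hb =>
      x.i.star (h9 ▸ hν) (cm_mono x.hA hνA) b (x.hA hb) r hr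
    rw [← h9] at hr
    have h14 := s.mem_smul _ (s.smul a hmu) hr
    have h15 := s.mem_smul a hmu h14
    set r1 := ((h * f) * a' * (h * f)⁻¹)⁻¹ • r with hr1
    set r0 := a⁻¹ • r1 with hr0
    have h16 : r = ((h * f) * a' * (h * f)⁻¹) • r1 := by rw [hr1, smul_inv_smul]
    have h17 : r1 = a • r0 := by rw [hr0, smul_inv_smul]
    have h18 : r = (a • r0 - r0) + ((((h * f) * a' * (h * f)⁻¹) • r1 - r1) + r0) := by
      rw [← h17, ← h16]; abel
    have h19 : a • r0 - r0 ∈ U lam := bb_sub (x.me.le ha) _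
    have h20 : (((h * f) * a' * (h * f)⁻¹) • r1 - r1) + r0 ∈ U (h • lam) :=
      (U (h • lam)).add_mem (bb_sub hb' _) h15
    have h21 : (((h * f) * a' * (h * f)⁻¹) • r1 - r1) + r0 ∈ cv M A := by
      have h22 := (cv M A).sub_mem h13 (le_cv_of_le_bb x.me.le h19)
      rwa [h18, add_sub_cancel_left] at h22
    have h23 : (((h * f) * a' * (h * f)⁻¹) • r1 - r1) + r0 ∈ U (h • lam) ⊓ cv M A := ⟨h20, h21⟩
    rw [x.cvD] at h23
    rw [h18]
    exact (U lam).add_mem h19 h23.1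
  refine eq_of_card_le h12 ?_
  rw [← h9, card_U s (s.smul a hmu), card_U s hmu, card_U s hl]

/-- **(4)** -/
theorem fat (x : Fy Lam U lam Ah A f h) (hlam : lam ∈ cm M A) :
    kk x.i.s lam ≤ cm M A ∧ kk x.i.s lam ⊔ (U lam ⊓ U (h • lam)) = U lam ∧
      Nat.card (kk x.i.s lam) = Nat.card A := by
  have s := x.i.s
  have h1 : kk x.i.s lam ⊔ (U lam ⊓ U (h • lam)) = U lam := by
    refine le_antisymm (sup_le (kk_le s) inf_le_left) ?_
    conv_lhs => rw [← x.card_A.2.1]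
    refine sup_le ?_ le_sup_right
    rintro _ ⟨a, ha, rfl⟩
    by_cases ha1 : a = 1
    · rw [ha1, one_smul, sub_self]; exact AddSubgroup.zero_mem _
    · obtain ⟨ν, h2, -, h3⟩ := exists_fat x hlam ha ha1
      have h4 : a • h • lam - h • lam = ν - (ν - (a • h • lam - h • lam)) := by abel
      rw [h4]
      exact AddSubgroup.sub_mem _ (AddSubgroup.mem_sup_left h2) (AddSubgroup.mem_sup_right h3)
  refine ⟨fun κ hκ => ?_, h1, ?_⟩
  · have h2 : κ ∈ cs (U lam) (h • lam) A x.me.le ⊔ (U lam ⊓ U (h • lam)) := by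
      rw [x.card_A.2.1]; exact kk_le s hκ
    rw [AddSubgroup.mem_sup] at h2
    obtain ⟨_, ⟨a, ha, rfl⟩, d, hd, h3⟩ := h2
    by_cases ha1 : a = 1
    · rw [ha1, one_smul, sub_self, zero_add] at h3
      have h4 : κ ∈ kk x.i.s lam ⊓ (U lam ⊓ U (h • lam)) := ⟨hκ, h3 ▸ hd⟩
      rw [kk_disj x.i x.v, AddSubgroup.mem_bot] at h4
      rw [h4]; exact AddSubgroup.zero_mem _
    · obtain ⟨ν, h4, h5, h6⟩ := exists_fat x hlam ha ha1
      have h7 : κ - ν ∈ kk x.i.s lam ⊓ (U lam ⊓ U (h • lam)) := by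
        refine ⟨AddSubgroup.sub_mem _ hκ h4, ?_⟩
        have h8 : κ - ν = d - (ν - (a • h • lam - h • lam)) := by rw [← h3]; abel
        rw [h8]
        exact AddSubgroup.sub_mem _ hd h6
      rw [kk_disj x.i x.v, AddSubgroup.mem_bot, sub_eq_zero] at h7
      rw [h7]; exact h5
  · have h2 := card_sup_of_disj (kk_disj x.i x.v)
    rw [h1, ← x.card_A.1] at h2
    exact (Nat.eq_of_mul_eq_mul_right Nat.card_pos h2).symm

/-- (3) + (4) -/
theorem big (x : Fy Lam U lam Ah A f h) (hc : 2 < Nat.card A) :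
    lam ∈ cm M A ∧ kk x.i.s lam ≤ cm M A ∧ kk x.i.s lam ⊔ (U lam ⊓ U (h • lam)) = U lam ∧
      kk x.i.s lam ⊓ (U lam ⊓ U (h • lam)) = ⊥ ∧ Nat.card (kk x.i.s lam) = Nat.card A := by
  have h1 := Three.lam_mem x hc
  have h2 := fat x h1
  exact ⟨h1, h2.1, h2.2.1, kk_disj x.i x.v, h2.2.2⟩

end Fy'

/-! ### existence of atoms, generation -/

/-- a nontrivial exact subgroup contains an atom -/
theorem exists_atom (i : Ih Lam U lam Ah) (hX : Ex M Ah X) (hX1 : X ≠ ⊥) : ∃ A, ME U lam A ∧ A ≤ X := by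
  obtain ⟨A, hA, hmin⟩ := Set.Finite.exists_minimal (Set.toFinite {Y : Subgroup H | Ex M Ah Y ∧ Y ≠ ⊥ ∧ Y ≤ X})
    ⟨X, hX, hX1, le_rfl⟩
  refine ⟨A, ⟨hA.1.le.trans i.le, hA.2.1, hA.1.ex, fun B hB h1 h2 => ?_⟩, hA.2.2⟩
  refine lt_of_le_of_ne (i.no (hB.trans hA.1.le)) fun h3 => h2 ?_
  exact le_antisymm hB (hmin ⟨⟨hB.trans hA.1.le, h3⟩, h1, hB.trans hA.2.2⟩ hB)

/-- every atom has its `f, h` -/
theorem exists_fy (i : Ih Lam U lam Ah) (me : ME U lam A) (hA : A ≤ Ah) : ∃ f h : H, Fy Lam U lam Ah A f h := by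
  obtain ⟨f, fA, hf1⟩ : ∃ f ∈ A, f ≠ 1 := by
    by_contra h1
    push Not at h1
    exact me.ne (eq_bot_iff.2 fun a ha => Subgroup.mem_bot.2 (h1 a ha))
  obtain ⟨h, h1, h2, h3⟩ := i.s.bs i.hl f (me.le fA) hf1
  exact ⟨f, h, i, hA, me, ⟨i.hl, me.le fA, hf1, h1, h2, h3⟩, fA⟩

/-- (3), (4) without `f, h`; `A'` any other atom of any `Ah'` over the same `λ`. -/
theorem big (i : Ih Lam U lam Ah) (me : ME U lam A) (hA : A ≤ Ah) (hc : 2 < Nat.card A) :
    lam ∈ cm M A ∧ kk i.s lam ≤ cm M A ∧ Nat.card (kk i.s lam) = Nat.card A ∧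
      ∀ (Ah' A' : Subgroup H), Ih Lam U lam Ah' → ME U lam A' → A' ≤ Ah' →
        Nat.card A' = Nat.card (kk i.s lam) ∧ kk i.s lam ≤ cm M A' := by
  obtain ⟨f, h, x⟩ := exists_fy i me hA
  obtain ⟨h1, h2, h3, h4, h5⟩ := Fy'.big x hc
  refine ⟨h1, h2, h5, fun Ah' A' i' me' hA' => ?_⟩
  obtain ⟨f', h', x'⟩ := exists_fy i' me' hA'
  have h6 : Nat.card (kk i.s lam) ≤ Nat.card A' := Fy'.card_le_atom x'
  obtain ⟨-, h7, -, -, h8⟩ := Fy'.big x' (by omega)
  exact ⟨h8.symm, h7⟩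

/-- a transvection with centre in `U` -/
def Tv (U : AddSubgroup M) (t : H) : Prop := ∃ c ∈ U, c ≠ 0 ∧ (∃ m : M, t • m ≠ m) ∧ ∀ m : M, t • m = m ∨ t • m = m + c

/-- an atom of order 2 is generated by a transvection -/
theorem tv_of_card (i : Ih Lam U lam Ah) (me : ME U lam A) (hc : Nat.card A ≤ 2) :
    ∃ f ∈ A, f ≠ 1 ∧ (∀ a ∈ A, a = 1 ∨ a = f) ∧ ∃ c ∈ cm M A, c ≠ 0 ∧ c ∈ U lam ∧ (∃ m : M, f • m ≠ m) ∧
      ∀ m : M, f • m = m ∨ f • m = m + c := by
  have s := i.s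
  have h1 : Nat.card A = 2 := by
    refine le_antisymm hc ?_
    have h4 : Nat.card A ≠ 1 := fun h => me.ne (Subgroup.card_eq_one.1 h)
    have h5 : 0 < Nat.card A := Nat.card_pos
    omega
  obtain ⟨f, fA, hf1⟩ : ∃ f ∈ A, f ≠ 1 := by
    by_contra h1
    push Not at h1
    exact me.ne (eq_bot_iff.2 fun a ha => Subgroup.mem_bot.2 (h1 a ha))
  have h2 : ∀ a ∈ A, a = 1 ∨ a = f := by
    intro a ha
    by_cases h3 : a = 1
    · exact Or.inl h3
    · right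
      have h4 := ((Nat.card_eq_two_iff' (1 : A)).1 h1).unique (y₁ := ⟨a, ha⟩) (y₂ := ⟨f, fA⟩)
        (fun h => h3 (congrArg Subtype.val h)) (fun h => hf1 (congrArg Subtype.val h))
      exact congrArg Subtype.val h4
  have h3 : (cv M A).index = 2 := by
    have h4 := me.ex
    rw [h1] at h4
    have h5 : 0 < Nat.card (cv M A) := Nat.card_pos
    refine Nat.eq_of_mul_eq_mul_left h5 ?_
    rw [AddSubgroup.card_mul_index, mul_comm, h4]
  obtain ⟨m0, hm0⟩ : ∃ m0 : M, f • m0 ≠ m0 := by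
    by_contra h4
    push Not at h4
    exact hf1 (s.faith f h4)
  have h4 : ∀ m : M, m ∈ cv M A ↔ f • m = m := fun m =>
    ⟨fun h => h f fA, fun h a ha => by
      rcases h2 a ha with rfl | rfl
      · exact one_smul _ m
      · exact h⟩
  have h5 : f • m0 - m0 ∈ cm M A := sub_mem_cm fA m0
  refine ⟨f, fA, hf1, h2, f • m0 - m0, h5, sub_ne_zero.2 hm0, cm_le_of_le_bb me.le h5, ⟨m0, hm0⟩, fun m => ?_⟩
  by_cases h6 : f • m = m
  · exact Or.inl h6
  · right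
    have h7 : m + m0 ∈ cv M A := by
      rw [AddSubgroup.add_mem_iff_of_index_two h3, h4, h4]
      exact ⟨fun h => absurd h h6, fun h => absurd h hm0⟩
    rw [h4, smul_add] at h7
    rw [s.sub_eq, ← add_assoc, ← sub_eq_iff_eq_add, s.sub_eq, ← sub_eq_iff_eq_add, s.sub_eq, add_right_comm, h7,
      add_assoc, s.two, add_zero]

/-- if all atoms of `Ah` have order 2, an exact `X ≤ Ah` is generated by transvections -/
theorem gen (i : Ih Lam U lam Ah) (hall : ∀ A, ME U lam A → A ≤ Ah → Nat.card A ≤ 2) :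
    ∀ (n : ℕ) (X : Subgroup H), Nat.card X ≤ n → Ex M Ah X →
      X ≤ Subgroup.closure {t | t ∈ X ∧ Tv (M := M) (U lam) t} := by
  intro n
  induction n with
  | zero =>
    intro X h1 _
    have h2 : 0 < Nat.card X := Nat.card_pos
    omega
  | succ n ih =>
    intro X h1 hX
    by_cases hX1 : X = ⊥
    · rw [hX1]; exact bot_le
    obtain ⟨A, me, hAX⟩ := exists_atom i hX hX1
    have hA := hAX.trans hX.le
    obtain ⟨f, h, x⟩ := exists_fy i me hA
    have y : Fz Lam U lam Ah X f h := ⟨i, hX, x.v, hAX x.fA⟩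
    obtain ⟨t, ht, ht1, h2, c, hc, hc0, hcU, hm, h3⟩ := tv_of_card i me (hall A me hA)
    have h4 := y.ca_ex.1
    have h5 : Nat.card (ca (h • lam) X) < Nat.card X := by
      refine lt_of_le_of_ne (Nat.card_le_card_of_injective _ (Subgroup.inclusion_injective inf_le_left)) fun h6 => ?_
      have h7 : ca (h • lam) X = X := Subgroup.eq_of_le_of_card_ge inf_le_left h6.ge
      exact y.f_notMem (by rw [h7]; exact y.fX)
    have h6 := ih _ (by omega) h4
    have h7 : t ∈ Subgroup.closure {t | t ∈ X ∧ Tv (M := M) (U lam) t} :=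
      Subgroup.subset_closure ⟨hAX ht, c, hcU, hc0, hm, h3⟩
    have h8 : ca (h • lam) X ≤ Subgroup.closure {t | t ∈ X ∧ Tv (M := M) (U lam) t} :=
      h6.trans (Subgroup.closure_mono fun t ht => ⟨ht.1.1, ht.2⟩)
    intro b hb
    obtain ⟨a, ha, h9⟩ := x.four_a hX hAX hb
    have h10 : a⁻¹ * b ∈ ca (h • lam) X := by
      refine ⟨X.mul_mem (X.inv_mem (hAX ha)) hb, ?_⟩
      change (a⁻¹ * b) • h • lam = h • lam
      rw [mul_smul, h9 _ (i.s.mem (x.v.mu i.s)), inv_smul_smul]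
    have h11 : a ∈ Subgroup.closure {t | t ∈ X ∧ Tv (M := M) (U lam) t} := by
      rcases h2 a ha with rfl | rfl
      · exact one_mem _
      · exact h7
    have h12 := mul_mem h11 (h8 h10)
    rwa [mul_inv_cancel_left] at h12

/-- (**) -/
theorem dstar (i : Ih Lam U lam Ah) {a : H} (ha : a ∈ Ah) {ν : M} (hν : ν ∈ Lam) (h1 : a • ν - ν ∈ U ν) :
    a • ν = ν := by
  by_contra h2
  have s := i.s
  have h3 : a • ν ∈ U ν := by
    have := (U ν).add_mem h1 (s.mem hν)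
    rwa [sub_add_cancel] at this
  have h4 := s.coll hν (s.smul a hν) h3 h2
  rw [← s.sub_eq] at h4
  exact h2 (i.star h4 (sub_mem_cm ha ν) a ha ν (i.col h4 hν h1))

/-- the centre `c` of an atom of order 2: `U_λ = D ⊕ ⟨c⟩`, `[μ, f] = c`. -/
theorem exists_c (x : Fy Lam U lam Ah A f h) (hc : Nat.card A ≤ 2) : ∃ c ∈ cm M A, c ≠ 0 ∧ c ∈ U lam ∧
    c ∉ U lam ⊓ U (h • lam) ∧ (∀ m : M, f • m = m ∨ f • m = m + c) ∧ f • h • lam = h • lam + c ∧
      ∀ u ∈ U lam, u ∈ U lam ⊓ U (h • lam) ∨ u + c ∈ U lam ⊓ U (h • lam) := by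
  obtain ⟨f', fA', hf1', h2, c, h3, h4, h5, -, h6⟩ := tv_of_card x.i x.me hc
  have h7 : f = f' := by
    rcases h2 f x.fA with h | h
    · exact absurd h x.v.hf1
    · exact h
  rw [← h7] at h6
  have h8 : f • h • lam = h • lam + c := by
    rcases h6 (h • lam) with h | h
    · exact absurd h (x.v.fmov x.i.s)
    · exact h
  have h9 : c ∉ U lam ⊓ U (h • lam) := by
    intro h10
    refine Fy'.smul_ne x x.fA x.v.hf1 (x.z.two_i (x.hA x.fA) ?_)
    rw [h8, add_sub_cancel_left]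
    exact h10
  refine ⟨c, h3, h4, h5, h9, h6, h8, fun u hu => ?_⟩
  have h10 : u ∈ cs (U lam) (h • lam) A x.me.le ⊔ (U lam ⊓ U (h • lam)) := by
    rw [x.card_A.2.1]; exact hu
  rw [AddSubgroup.mem_sup] at h10
  obtain ⟨_, ⟨a, ha, rfl⟩, d, hd, h11⟩ := h10
  rcases h2 a ha with rfl | rfl
  · left
    rw [one_smul, sub_self, zero_add] at h11
    rw [← h11]; exact hd
  · right
    rw [← h7, h8, add_sub_cancel_left] at h11
    rw [← h11, add_right_comm, x.i.s.two, zero_add]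
    exact hd

end Cfsg.Agent.Omega.NO3S.TwoMid.Inn.Fat
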