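import Cfsg.Agent.Omega.NO3S.TwoMid.Inn.Grp
import Cfsg.Agent.Omega.NO3S.TypeN.Joined

/-!
# NO-3S TwoMid: inner pairs, (5) of bb #18799, first half (helper786)

* `Big V b r` : some line on `b` other than `br` has the same `I_l`; `Big.flag` : then this holds for every flag;
* `big_of_card`, `Big.card` : `Big V b r` iff `|K_λ| > 2`; `Big.atom` : then all atoms have order `> 2`;
* `In.second` : with `Big`, an inner pair has a second middle `e` with `W_b ∩ W_e = W_b ∩ W_r`.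
-/

set_option autoImplicit false
set_option linter.unusedSectionVars false

namespace Cfsg.Agent.Omega.NO3S.TwoMid.Inn.FiveOne

open Subgroup Cfsg Cfsg.Agent.ZN Cfsg.Agent.MinSimple.Geo Cfsg.Agent.Omega.CaseL Cfsg.Agent.Omega.NO3S.TwoOne
  Cfsg.Agent.Omega.NO3S.Pt
open Cfsg.Agent.Omega.NOThree.TF (Md MM pim md_MM conj_mem_ws_of_mem)
open Cfsg.Agent.Omega.NOThree.LL (Im toIm toIm_smul toIm_surj LamS UU)
open Cfsg.Agent.Omega.NOThree.LL.One (cv cm cm_mono bb Sys ME Mv)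
open Cfsg.Agent.Omega.NO3S.TwoMid.Inn.Geo Cfsg.Agent.Omega.NO3S.TwoMid.Inn.Grp
open Cfsg.Agent.Omega.NO3S.TwoMid.Inn.Fat (kk mem_kk)

universe u v

variable {G : Type u} [Group G] {T V : Subgroup G} {z : G} {a b r x y e k g : G}

/-- a second line on `b` with the same `I_l` -/
def Big (V : Subgroup G) (b r : G) : Prop :=
  ∃ e, Col V b e ∧ e ≠ b ∧ e ≠ r ∧ e ≠ b * r ∧ ws V b ⊓ ws V e = ws V b ⊓ ws V r

theorem Big.conj (h : Big V b r) (g : G) : Big V (g * b * g⁻¹) (g * r * g⁻¹) := by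
  obtain ⟨e, h1, h2, h3, h4, h5⟩ := h
  have inj : ∀ {x y : G}, g * x * g⁻¹ = g * y * g⁻¹ → x = y := fun {x y} h =>
    mul_left_cancel (mul_right_cancel h)
  refine ⟨g * e * g⁻¹, h1.conj g, fun h => h2 (inj h), fun h => h3 (inj h), fun h => h4 (inj ?_), ?_⟩
  · rw [h]; group
  · have key : ∀ x : G, ws V (g * b * g⁻¹) ⊓ ws V (g * x * g⁻¹) = cj g (ws V b ⊓ ws V x) := by
      intro x
      rw [← cj_ws, ← cj_ws]
      exact (Subgroup.map_inf (ws V b) (ws V x) (MulAut.conj g).toMonoidHom (MulAut.conj g).injective).symm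
    rw [key, key, h5]

theorem Big.flag (h : Big V b r) (hf : Fr T V z) {b' r' : G} (h1 : Col V b r) (h1n : r ≠ b) (h2 : Col V b' r')
    (h2n : r' ≠ b') : Big V b' r' := by
  obtain ⟨g, e1, e2⟩ := TypeN.exists_conj_flag hf h1 h1n h2 h2n
  have := h.conj g
  rwa [e1, e2] at this

section

variable {M : Type v} [AddCommGroup M] [DistribMulAction (centralizer ({b} : Set G)) M] {π : G → M} [Finite G]

/-- `U_{π e} = U_{π r}` iff `W_b ∩ W_e = W_b ∩ W_r` -/
theorem UU_eq_iff (h : Fr T V z) (md : Md V b π) (hr : Col V b r) (hrb : r ≠ b) (he : Col V b e) (heb : e ≠ b) :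
    UU V b π (π e) = UU V b π (π r) ↔ ws V b ⊓ ws V e = ws V b ⊓ ws V r := by
  constructor
  · intro h1
    have key : ∀ {e r : G}, Col V b e → e ≠ b → Col V b r → r ≠ b → UU V b π (π e) ≤ UU V b π (π r) →
        ws V b ⊓ ws V e ≤ ws V b ⊓ ws V r := by
      intro e r he heb hr hrb h1 w hw
      have h2 := h1 ((mem_UU' h md he heb _).2 ⟨w, hw, rfl⟩)
      rw [mem_UU' h md hr hrb] at h2
      obtain ⟨w', hw', e1⟩ := h2
      have h3 : b ∈ ws V b ⊓ ws V r := ⟨h.mem_ws_self hr.left, h.mem_ws_of_col hr.symm⟩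
      rcases (md.eq_iff h hr.left hw'.1 hw.1).1 e1 with e2 | e2
      · rw [← e2]; exact hw'
      · have e3 : w = b⁻¹ * w' := by rw [e2]; group
        rw [e3]
        exact mul_mem (inv_mem h3) hw'
    exact le_antisymm (key he heb hr hrb h1.le) (key hr hrb he heb h1.ge)
  · intro h1
    ext m
    rw [mem_UU' h md he heb, mem_UU' h md hr hrb, h1]

theorem pi_ne (h : Fr T V z) (md : Md V b π) (hr : Col V b r) (he : Col V b e) (h1 : e ≠ r)
    (h2 : e ≠ b * r) : π e ≠ π r := by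
  intro h3
  rcases (md.eq_iff h hr.left (h.mem_ws_of_col he) (h.mem_ws_of_col hr)).1 h3 with e1 | e1
  · exact h1 e1
  · exact h2 e1

theorem ne_of_pi (h : Fr T V z) (md : Md V b π) (hr : Col V b r) (h1 : π e ≠ π r) :
    e ≠ r ∧ e ≠ b * r := by
  constructor
  · rintro rfl; exact h1 rfl
  · rintro rfl
    apply h1
    have hrw := h.mem_ws_of_col hr
    rw [md.map_mul b (h.mem_ws_self hr.left) r hrw, md.map_p h hr.left, zero_add]

/-- a third element of a subgroup of order `> 2` -/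
theorem exists_third {A : Type*} [AddGroup A] [Finite A] {K : AddSubgroup A} (hK : 2 < Nat.card K) (l : A) :
    ∃ κ ∈ K, κ ≠ 0 ∧ κ ≠ l := by
  by_contra hcon
  push Not at hcon
  have h1 : (K : Set A) ⊆ {0, l} := by
    intro x hx
    by_cases hx0 : x = 0
    · exact Or.inl hx0
    · exact Or.inr (hcon x hx hx0)
  have h2 := Set.ncard_le_ncard h1 (Set.toFinite _)
  have h3 : ({0, l} : Set A).ncard ≤ 2 := Set.ncard_insert_le _ _ |>.trans (by rw [Set.ncard_singleton])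
  have h4 : (K : Set A).ncard = Nat.card K := rfl
  omega

theorem three_le {A : Type*} [AddGroup A] [Finite A] {K : AddSubgroup A} {κ l : A} (h1 : κ ∈ K) (h2 : l ∈ K)
    (h3 : κ ≠ 0) (h4 : l ≠ 0) (h5 : κ ≠ l) : 2 < Nat.card K := by
  have h6 : ({0, κ, l} : Set A) ⊆ (K : Set A) := by
    rintro x (rfl | rfl | rfl)
    · exact K.zero_mem
    · exact h1
    · exact h2
  have h7 := Set.ncard_le_ncard h6 (Set.toFinite _)
  have h8 : ({0, κ, l} : Set A).ncard = 3 := by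
    rw [Set.ncard_insert_of_notMem (by simp [Ne.symm h3, Ne.symm h4]), Set.ncard_pair h5]
  have h9 : (K : Set A).ncard = Nat.card K := rfl
  omega

end

section

variable [Finite G]

/-- a fat point gives `Big` -/
theorem big_of_card (h : Fr T V z) (hr : Col V b r) (hrb : r ≠ b)
    (s : Sys (Im (centralizer ({b} : Set G)) (MM V b)) (LamS V b (pim V b)) (UU V b (pim V b)))
    (hc : 2 < Nat.card (kk s (pim V b r))) : Big V b r := by
  have md := md_MM h hr.left
  obtain ⟨κ, hκ, hκ0, hκr⟩ := exists_third hc (pim V b r)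
  rcases hκ with h1 | ⟨⟨e, he, heb, rfl⟩, h2⟩
  · exact absurd h1 hκ0
  · obtain ⟨h3, h4⟩ := ne_of_pi h md hr hκr
    exact ⟨e, he, heb, h3, h4, (UU_eq_iff h md hr hrb he heb).1 h2⟩

theorem Big.card (h : Big V b r) (hf : Fr T V z) (hr : Col V b r) (hrb : r ≠ b)
    (s : Sys (Im (centralizer ({b} : Set G)) (MM V b)) (LamS V b (pim V b)) (UU V b (pim V b))) :
    2 < Nat.card (kk s (pim V b r)) := by
  have md := md_MM hf hr.left
  obtain ⟨e, he, heb, h3, h4, h5⟩ := h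
  have h6 : pim V b e ∈ LamS V b (pim V b) := ⟨e, he, heb, rfl⟩
  have h7 : pim V b r ∈ LamS V b (pim V b) := ⟨r, hr, hrb, rfl⟩
  refine three_le (κ := pim V b e) (l := pim V b r) ?_ ?_ ?_ ?_ ?_
  · exact mem_kk.2 (Or.inr ⟨h6, (UU_eq_iff hf md hr hrb he heb).2 h5⟩)
  · exact mem_kk.2 (Or.inr ⟨h7, rfl⟩)
  · intro e1; exact s.ne (e1 ▸ h6)
  · intro e1; exact s.ne (e1 ▸ h7)
  · exact pi_ne hf md hr he h3 h4

/-- with `Big`, all atoms have order `> 2` -/
theorem Big.atom (hB : Big V b r) (h : In T V z a r b) (hNO : NoM V)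
    {A : Subgroup (Im (centralizer ({b} : Set G)) (MM V b))} (me : ME (UU V b (pim V b)) (pim V b r) A)
    (hA : A ≤ AH (MM V b) V a r b) : 2 < Nat.card A := by
  have i := ih h hNO
  obtain ⟨f, k, x⟩ := Fat.exists_fy i me hA
  exact (hB.card h.fr h.rq.symm h.ne_rq i.s).trans_le (Fat.Fy'.card_le_atom x)

/-- **(ii)** -/
theorem second (h : In T V z a r b) (hNO : NoM V) (hB : Big V b r) :
    ∃ e, In T V z a e b ∧ Col V e r ∧ e ≠ r ∧ e ≠ b * r ∧ ws V b ⊓ ws V e = ws V b ⊓ ws V r := by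
  have hf := h.fr
  have hr := h.rq.symm
  have hrb := h.ne_rq
  have md := md_MM hf hr.left
  have i := ih h hNO
  obtain ⟨A, me, hA⟩ := Fat.exists_atom i (ex_AI h hNO) (AI_ne_bot h.toMid md)
  have hA' := hA.trans (AI_le_AH V a r b)
  have hc := hB.atom h hNO me hA'
  obtain ⟨-, h1, h2, -⟩ := Fat.big i me hA' hc
  obtain ⟨κ, hκ, hκ0, hκr⟩ := exists_third (h2 ▸ hc) (pim V b r)
  obtain ⟨e, he, rfl⟩ := exists_of_cm h.toMid md (cm_mono hA (h1 hκ))
  rcases hκ with h3 | ⟨⟨x, hx, hxb, hxe⟩, h3⟩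
  · exact absurd h3 hκ0
  have hd := h.dr_le (mem_sup_left he)
  obtain ⟨hbe, heb⟩ := col_of_pi hf md hx hxb hd.2 hxe.symm
  obtain ⟨h4, h5⟩ := ne_of_pi hf md hr hκr
  have h6 := (UU_eq_iff hf md hr hrb hbe heb).1 h3
  have hin : rr V a b ≤ ws V e := by
    intro d hd
    have h7 : d ∈ ws V b ⊓ ws V r := ⟨(h.rr_le hd).2, h.inn hd⟩
    rw [← h6] at h7
    exact h7.2
  exact ⟨e, { h.toTwo with pr := (h.col_a hd hbe).symm, rq := hbe.symm, ne := h.ne, inn := hin }, (h.col hd hbe).1,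
    h4, h5, h6⟩

end

end Cfsg.Agent.Omega.NO3S.TwoMid.Inn.FiveOne
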