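import Cfsg.Agent.Omega.NO3S.TwoMid.Inn.FiveEnd
import Cfsg.Agent.Omega.NO3S.TwoMid.Inn.FiveOne

/-!
# NO-3S TwoMid: inner pairs, (5) of bb #18799 (helper786, helper278)

`atoms_two` : in an inner pair all atoms of `A^` have order 2.
-/

set_option autoImplicit false

namespace Cfsg.Agent.Omega.NO3S.TwoMid.Inn.Five

open Subgroup Cfsg Cfsg.Agent.ZN Cfsg.Agent.MinSimple.Geo Cfsg.Agent.Omega.CaseL Cfsg.Agent.Omega.NO3S.TwoOne
  Cfsg.Agent.Omega.NO3S.Pt
open Cfsg.Agent.Omega.NOThree.TF (Md MM pim md_MM)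
open Cfsg.Agent.Omega.NOThree.LL (Im UU)
open Cfsg.Agent.Omega.NOThree.LL.One (ME)
open Cfsg.Agent.Omega.NO3S.TwoMid.Inn.Geo Cfsg.Agent.Omega.NO3S.TwoMid.Inn.Grp

universe u

variable {G : Type u} [Group G] {T V : Subgroup G} {z : G}

/-- `Big` is impossible for an inner pair -/
theorem not_big [Finite G] {a r b : G} (h : In T V z a r b) (hNO : NoM V) : ¬ FiveOne.Big V b r := by
  intro hB
  obtain ⟨e, h1, -, h2, -, h3⟩ := FiveOne.second h hNO hB
  refine FiveEnd.five_end h h1 h2 hNO h3 fun a' r' b' h' A me hA => ?_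
  exact (hB.flag h.fr h.rq.symm h.ne_rq h'.rq.symm h'.ne_rq).atom h' hNO me hA

/-- **(5)**: all atoms have order 2 -/
theorem atoms_two [Finite G] {a r b : G} (h : In T V z a r b) (hNO : NoM V)
    (A : Subgroup (Im (centralizer ({b} : Set G)) (MM V b))) (me : ME (UU V b (pim V b)) (pim V b r) A)
    (hA : A ≤ AH (MM V b) V a r b) : Nat.card A ≤ 2 := by
  by_contra hc
  have i := ih h hNO
  have h1 := (Fat.big i me hA (by omega)).2.2.1
  exact not_big h hNO (FiveOne.big_of_card h.fr h.rq.symm h.ne_rq i.s (by omega))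

end Cfsg.Agent.Omega.NO3S.TwoMid.Inn.Five
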