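import Cfsg.Agent.Omega.NO3S.TwoMid.Inn.Grp
import Cfsg.Agent.Omega.NO3S.TypeN.Joined

/-!
# NO-3S TwoMid: (5) of helper144 #18799, second half

`five_end` : `(a, b)` inner with the two middles `r`, `e` (`r ~ e`, `W_b ∩ W_e = W_b ∩ W_r`) and all atoms of order `> 2`:
contradiction (in `M_a` the vector `e` lies in the fat point of `r`, so `W_a ∩ W_e = W_a ∩ W_r`, so `W_a ∩ W_r = W_b ∩ W_r`).
-/

set_option autoImplicit false
set_option linter.unusedSectionVars false

namespace Cfsg.Agent.Omega.NO3S.TwoMid.Inn.FiveEnd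

open Subgroup Cfsg Cfsg.Agent.ZN Cfsg.Agent.MinSimple.Geo Cfsg.Agent.Omega.CaseL Cfsg.Agent.Omega.NO3S.TwoOne
  Cfsg.Agent.Omega.NO3S.Pt
open Cfsg.Agent.Omega.NOThree.TF (Md MM pim md_MM conj_mem_ws_of_mem)
open Cfsg.Agent.Omega.NOThree.LL (Im toIm toIm_smul toIm_surj LamS UU mem_UU line_eq NoHP sys)
open Cfsg.Agent.Omega.NOThree.LL.One (cv cm bb Sys ME Mv cm_mono)
open Cfsg.Agent.Omega.NO3S.TypeN (exists_conj_flag)
open Cfsg.Agent.Omega.NO3S.TwoMid.Inn.Geo Cfsg.Agent.Omega.NO3S.TwoMid.Inn.Grp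

universe u

variable {G : Type u} [Group G] {T V : Subgroup G} {z : G} {a b r x y e k g : G}

/-- `|W_p ∩ W_q|` is the same for all lines -/
theorem card_inf (h : Fr T V z) {p q p' q' : G} (h1 : Col V p q) (hn : q ≠ p) (h2 : Col V p' q') (hn' : q' ≠ p') :
    Nat.card (ws V p ⊓ ws V q : Subgroup G) = Nat.card (ws V p' ⊓ ws V q' : Subgroup G) := by
  obtain ⟨g, e1, e2⟩ := exists_conj_flag h h1 hn h2 hn'
  have e3 : Cfsg.Agent.MinSimple.Geo.cj g (ws V p ⊓ ws V q) = ws V p' ⊓ ws V q' := by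
    rw [Cfsg.Agent.MinSimple.Geo.cj_inf, cj_ws, cj_ws, e1, e2]
  rw [← e3, Cfsg.Agent.MinSimple.Geo.card_cj]

/-- `U_{π x} = U_{π y}` implies `W_a ∩ W_x = W_a ∩ W_y` -/
theorem inf_eq_of_UU [Finite G] (h : Fr T V z) (hx : Col V a x) (hxa : x ≠ a) (hy : Col V a y) (hya : y ≠ a)
    (hU : UU V a (pim V a) (pim V a x) = UU V a (pim V a) (pim V a y)) : ws V a ⊓ ws V x = ws V a ⊓ ws V y := by
  have md := md_MM (p := a) h hx.left
  have key : ∀ {x y : G}, Col V a x → x ≠ a → Col V a y → y ≠ a →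
      UU V a (pim V a) (pim V a x) = UU V a (pim V a) (pim V a y) → ws V a ⊓ ws V x ≤ ws V a ⊓ ws V y := by
    intro x y hx hxa hy hya hU w hw
    have h1 : pim V a w ∈ UU V a (pim V a) (pim V a y) := by
      rw [← hU, mem_UU' h md hx hxa]
      exact ⟨w, hw, rfl⟩
    rw [mem_UU' h md hy hya] at h1
    obtain ⟨w', hw', e1⟩ := h1
    rcases (md.eq_iff h hx.left hw'.1 hw.1).1 e1 with e2 | e2
    · rw [← e2]; exact hw'
    · have e3 : w = a⁻¹ * w' := by rw [e2]; group
      have ha : a ∈ ws V a ⊓ ws V y := ⟨h.mem_ws_self hy.left, h.mem_ws_of_col hy.symm⟩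
      rw [e3]
      exact mul_mem (inv_mem ha) hw'
  exact le_antisymm (key hx hxa hy hya hU) (key hy hya hx hxa hU.symm)

/-- **#18799 (5), second half** -/
theorem five_end [Finite G] (h : In T V z a r b) (he : In T V z a e b) (hne : e ≠ r) (hNO : NoM V)
    (hbe : ws V b ⊓ ws V e = ws V b ⊓ ws V r)
    (hbig : ∀ a r b : G, In T V z a r b → ∀ A, ME (UU V b (pim V b)) (pim V b r) A → A ≤ AH (MM V b) V a r b →
      2 < Nat.card A) : False := by
  have hfr := h.fr
  have her : Col V e r := by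
    have e1 : e ∈ ws V b ⊓ ws V e := ⟨he.r_mem.2, hfr.mem_ws_self he.rq.left⟩
    have e2 := hbe ▸ e1
    exact (h.col ⟨⟨he.r_mem.1, e2.2⟩, e2.1⟩ he.rq.symm).1
  have haa : Col V a a := h.pr.left
  have md : Md V a (pim V a) := md_MM hfr haa
  have i1 := ih h.symm hNO
  have i2 := ih he.symm hNO
  have s := i1.s
  obtain ⟨A, me, hA⟩ := Fat.exists_atom i1 (ex_AI h.symm hNO) (AI_ne_bot h.toMid.symm md)
  have hAH : A ≤ AH (MM V a) V b r a := hA.trans (AI_le_AH V b r a)
  have hAH2 : A ≤ AH (MM V a) V b e a := hA.trans (AI_le_AH V b e a)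
  have hc : 2 < Nat.card A := hbig _ _ _ h.symm A me hAH
  have me2 : ME (UU V a (pim V a)) (pim V a e) A :=
    ⟨hA.trans (AI_le_bb he.symm md), me.ne, me.ex, me.min⟩
  have h1 : pim V a e ∈ cm (MM V a) A := (Fat.big i2 me2 hAH2 hc).1
  obtain ⟨f, g, x⟩ := Fat.exists_fy i1 me hAH
  obtain ⟨-, h2, h3, -, -⟩ := Fat.Fy'.big x hc
  -- `a ~ r`, `a ~ e`
  have har : Col V a r := h.pr
  have hra : r ≠ a := h.ne_pr.symm
  have hae : Col V a e := he.pr
  have hea : e ≠ a := he.ne_pr.symm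
  have h4 : pim V a e ∈ UU V a (pim V a) (pim V a r) := mem_UU_of_col hfr md har hra hae her.symm
  have h4' := h4
  have hLe : pim V a e ∈ LamS V a (pim V a) := ⟨e, hae, hea, rfl⟩
  have h5 : pim V a e ∈ Fat.kk x.i.s (pim V a r) := by
    rw [← h3, AddSubgroup.mem_sup] at h4
    obtain ⟨κ, hκ, d, hd, e1⟩ := h4
    by_cases hd0 : d = 0
    · rw [hd0, add_zero] at e1
      rw [← e1]; exact hκ
    · exfalso
      have hdc : d ∈ cm (MM V a) A := by
        have e2 : d = pim V a e - κ := by rw [← e1]; abel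
        rw [e2]
        exact AddSubgroup.sub_mem _ h1 (h2 hκ)
      have hdL : d ∈ LamS V a (pim V a) := by
        rcases hκ with hκ | ⟨hκ1, hκ2⟩
        · rw [hκ, zero_add] at e1
          rw [e1]; exact hLe
        · -- `κ`, `e` are line vectors, `e ∈ U_κ`
          have e2 : pim V a e ≠ κ := fun e3 => hd0 (by
            rw [← e3] at e1
            exact (left_eq_add.mp e1.symm))
          have e3 := s.coll hκ1 hLe (by rw [hκ2]; exact h4') e2
          have e4 : d = pim V a e + κ := by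
            have e5 : d = κ + d + κ := by rw [add_comm κ d, add_assoc, s.two, add_zero]
            rw [e1] at e5
            exact e5
          rw [e4]; exact e3
      exact x.i.notLam x.v (hAH x.fA) (cm_mono hAH hdc) hd hdL
  have h6 : UU V a (pim V a) (pim V a e) = UU V a (pim V a) (pim V a r) := by
    rcases h5 with h5 | h5
    · exact absurd (h5 ▸ hLe) s.ne
    · exact h5.2
  have h7 := inf_eq_of_UU hfr hae hea har hra h6
  -- `W_e ∩ W_r` contains `W_b ∩ W_r` and `W_a ∩ W_r`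
  have h8 : ws V b ⊓ ws V r ≤ ws V e ⊓ ws V r := le_inf (hbe ▸ inf_le_right) inf_le_right
  have h9 : ws V a ⊓ ws V r ≤ ws V e ⊓ ws V r := le_inf (h7 ▸ inf_le_right) inf_le_right
  have h10 := Subgroup.eq_of_le_of_card_ge h8
    (card_inf hfr her (Ne.symm hne) h.rq.symm h.ne_rq).le
  have h11 := Subgroup.eq_of_le_of_card_ge h9 (card_inf hfr her (Ne.symm hne) har hra).le
  have h12 : a ∈ ws V b ⊓ ws V r := by
    rw [h10, ← h11]
    exact ⟨hfr.mem_ws_self haa, hfr.mem_ws_of_col har.symm⟩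
  exact h.not_mem h12.1

end Cfsg.Agent.Omega.NO3S.TwoMid.Inn.FiveEnd
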