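import Cfsg.Agent.Omega.NO3S.TwoMid.PartA

/-!
# NO-3S TwoMid: inner pairs, geometry (helper144, bb #18799)

* `col_all` : a point `u ∈ I_l - l` collinear with one point of `l` is collinear with all points of `l`;
* `In T V z a r b` : `(a, b)` critical, middle `r`, `[W_a, W_b] ≤ W_r` (an inner pair); `In.symm`, `In.conj'`;
* `In.col` : a point `e ∼ b`, `e ∈ W_a ∩ W_r ∩ W_b`, is collinear with `r`, `a` and every point of the line `ar`;
* `JG V b r = K_r ∩ C(b)`; `In.jg` : for `k ∈ JG` the pair `(a^k, b)` is inner, `[W_{a^k}, W_b] ≤ [W_a, W_b]⟨r⟩`.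
-/

set_option autoImplicit false
set_option linter.unusedSectionVars false

namespace Cfsg.Agent.Omega.NO3S.TwoMid.Inn.Geo

open Subgroup Cfsg Cfsg.Agent.ZN Cfsg.Agent.MinSimple.Geo Cfsg.Agent.Omega.CaseL Cfsg.Agent.Omega.NO3S.TwoOne
  Cfsg.Agent.Omega.NO3S.Pt
open Cfsg.Agent.ZN.Block (conj_mem_of_normalizer conj_mem_of_normalizer' le_normalizer_of_forall
  mem_normalizer_of)

universe u

variable {G : Type u} [Group G] {T V : Subgroup G} {z : G} {a b r x y e k g : G}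

/-- a point `u ∈ I_l - l` collinear with one point of `l` is collinear with all points of `l` -/
theorem col_all [Finite G] (h : Fr T V z) {g u p q : G} (hu : u ∈ ii (cj g V)) (huV : u ∉ cj g V)
    (hp : p ∈ cj g V) (hp1 : p ≠ 1) (hq : q ∈ cj g V) (hq1 : q ≠ 1) (hup : Col V u p) : Col V u q := by
  obtain ⟨c, -, hcu, hcp⟩ := h.ftwo_cj hu huV hp hp1 hq hq1
  have h1 := hup.conj c
  rwa [hcp, conj_eq_of_comm hcu] at h1

/-- an inner pair -/
structure In (T V : Subgroup G) (z a r b : G) : Prop extends Mid T V z a r b where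
  inn : rr V a b ≤ ws V r

/-- the points of a line -/
theorem four (h : Fr T V z) {p x u : G} (hp : p ∈ cj g V) (hp1 : p ≠ 1) (hx : x ∈ cj g V) (hx1 : x ≠ 1)
    (hne : x ≠ p) (hu : u ∈ cj g V) : u = 1 ∨ u = p ∨ u = x ∨ u = p * x := by
  obtain ⟨k, -, -, hf⟩ := h.flag hp hp1
  exact hf.ln.four hp hx hp1 hx1 (Ne.symm hne) hu

namespace In

theorem symm (h : In T V z a r b) : In T V z b r a :=
  { h.toMid.symm with inn := by rw [rr_comm]; exact h.inn }

theorem conj' (h : In T V z a r b) (g : G) : In T V z (g * a * g⁻¹) (g * r * g⁻¹) (g * b * g⁻¹) :=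
  { h.toMid.conj g with
    inn := by
      rw [← cj_rr, ← cj_ws]
      exact Subgroup.map_mono h.inn }

/-- `[W_a, W_b]⟨r⟩ ≤ W_a ∩ W_r ∩ W_b` -/
theorem dr_le (h : In T V z a r b) : rr V a b ⊔ zpowers r ≤ ws V a ⊓ ws V r ⊓ ws V b := by
  refine sup_le (le_inf (le_inf (h.rr_le.trans inf_le_left) h.inn) (h.rr_le.trans inf_le_right)) ?_
  rw [zpowers_le]
  exact ⟨⟨h.r_mem.1, h.fr.mem_ws_self h.rq.left⟩, h.r_mem.2⟩

variable [Finite G]

/-- a point `e ∼ b` in `W_a ∩ W_r ∩ W_b` is `∼ r` and `∼` all points of the line `ar` -/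
theorem col (h : In T V z a r b) (he : e ∈ ws V a ⊓ ws V r ⊓ ws V b) (hbe : Col V b e) :
    Col V e r ∧ ∀ g q : G, a ∈ cj g V → r ∈ cj g V → q ∈ cj g V → q ≠ 1 → Col V e q := by
  obtain ⟨⟨hea, her⟩, heb⟩ := he
  have haW : a ∉ ws V b := h.not_mem
  have hbW : b ∉ ws V a := h.not_mem'
  have hra : r ∈ ws V a := h.r_mem.1
  have hrb : r ∈ ws V b := h.r_mem.2
  have h1 : Col V e r := by
    obtain ⟨g, hr, hb, hr1, hb1⟩ := h.rq
    have hii : e ∈ ii (cj g V) := h.fr.mem_ii_cj hr hr1 hb hb1 h.ne_rq.symm her heb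
    by_cases heV : e ∈ cj g V
    · rcases four h.fr hr hr1 hb hb1 h.ne_rq.symm heV with e1 | e1 | e1 | e1
      · exact absurd e1 hbe.right.ne_one
      · rw [e1]; exact h.rq.left
      · exact absurd (e1 ▸ hea) hbW
      · exfalso
        apply hbW
        have e2 : b = r⁻¹ * e := by rw [e1]; group
        rw [e2]
        exact mul_mem (inv_mem hra) hea
    · exact col_all h.fr hii heV hb hb1 hr hr1 hbe.symm
  refine ⟨h1, fun g q ha hr hq hq1 => ?_⟩
  have ha1 : a ≠ 1 := h.pr.ne_one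
  have hr1 : r ≠ 1 := h.rq.ne_one
  have hii : e ∈ ii (cj g V) := h.fr.mem_ii_cj hr hr1 ha ha1 h.ne_pr her hea
  by_cases heV : e ∈ cj g V
  · exact ⟨g, heV, hq, h1.ne_one, hq1⟩
  · exact col_all h.fr hii heV hr hr1 hq hq1 h1

theorem col_a (h : In T V z a r b) (he : e ∈ ws V a ⊓ ws V r ⊓ ws V b) (hbe : Col V b e) : Col V e a := by
  obtain ⟨g, ha, hr, ha1, -⟩ := h.pr
  exact (h.col he hbe).2 g a ha hr ha ha1

end In

/-- `K_r ∩ C(b)` -/
def JG (V : Subgroup G) (b r : G) : Subgroup G := kq V r ⊓ centralizer ({b} : Set G)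

theorem mem_JG : k ∈ JG V b r ↔ k ∈ kq V r ∧ k * b = b * k := by
  unfold JG
  rw [mem_inf, mem_centralizer_singleton_iff]

theorem JG_b (hk : k ∈ JG V b r) : k * b * k⁻¹ = b := conj_eq_of_comm (mem_JG.1 hk).2

theorem JG_r (hk : k ∈ JG V b r) : k * r * k⁻¹ = r :=
  conj_eq_of_comm (mem_centralizer_singleton_iff.1 (kq_le_centralizer V r (mem_JG.1 hk).1))

namespace In

variable [Finite G]

theorem jg (h : In T V z a r b) (hk : k ∈ JG V b r) : In T V z (k * a * k⁻¹) r b := by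
  have := h.conj' k
  rwa [JG_b hk, JG_r hk] at this

theorem jg_cases (h : In T V z a r b) (hk : k ∈ JG V b r) : k * a * k⁻¹ = a ∨ k * a * k⁻¹ = r * a :=
  h.fr.kq_cases' h.rq.left (mem_JG.1 hk).1 (h.fr.mem_ws_of_col h.pr.symm)

/-- `[W_{a^k}, W_b] ≤ [W_a, W_b]⟨r⟩` -/
theorem jg_rr (h : In T V z a r b) (hk : k ∈ JG V b r) : rr V (k * a * k⁻¹) b ≤ rr V a b ⊔ zpowers r := by
  have e1 : rr V (k * a * k⁻¹) b = cj k (rr V a b) := by rw [cj_rr, JG_b hk]
  rw [e1]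
  intro d hd
  rw [mem_cj] at hd
  have h1 := h.inn hd
  have h2 := h.fr.kq_cases' h.rq.left (mem_JG.1 hk).1 h1
  have h3 : k * (k⁻¹ * d * k) * k⁻¹ = d := by group
  rw [h3] at h2
  rcases h2 with e2 | e2
  · rw [e2]; exact mem_sup_left hd
  · rw [e2]; exact mul_mem (mem_sup_right (mem_zpowers r)) (mem_sup_left hd)

/-- `W_{a^k}` centralises `W_e`, `e` as in `col` -/
theorem jg_com (h : In T V z a r b) (hk : k ∈ JG V b r) (he : e ∈ ws V a ⊓ ws V r ⊓ ws V b) (hbe : Col V b e) :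
    Com V (k * a * k⁻¹) e := by
  obtain ⟨g, ha, hr, ha1, hr1⟩ := h.pr
  have h1 : k * a * k⁻¹ ∈ cj g V := by
    rcases h.jg_cases hk with e1 | e1
    · rw [e1]; exact ha
    · rw [e1]; exact mul_mem hr ha
  have h2 : k * a * k⁻¹ ≠ 1 := fun e1 => ha1 (conj_eq_one_iff.1 e1)
  exact h.toTwo.com ((h.col he hbe).2 g _ ha hr h1 h2).symm

end In

end Cfsg.Agent.Omega.NO3S.TwoMid.Inn.Geo
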