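import Cfsg.Agent.Omega.NO3S.TwoMid.Inn.Fat
import Cfsg.Agent.Omega.NO3S.TwoMid.Inn.Geo
import Cfsg.Agent.Omega.NO3S.TwoMid.NOm
import Cfsg.Agent.Omega.NOThree.LL.InstOne
import Cfsg.Agent.Omega.NOThree.TF.MdEx

/-!
# NO-3S TwoMid: inner pairs, `Ih` for `M_b` (helper144, bb #18799)

`md : Md V b π` (`M = W_b/b`), `Im = image of C(b) on M`.

* `AI b a M` : the image of `W_a ∩ C(b)`; `AH` : the join of the `AI b (k a k⁻¹) M`, `k ∈ JG V b r = K_r ∩ C(b)`;
* `card_AI` : exactness of an inner pair, from (NO) on both sides; `f2_kq` : (F2') with `k ∈ K_x`;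
* `ih` : `Reg.Ih (LamS V b π) (UU V b π) (π r) (AH ..)` for an inner pair `(a, b)`, middle `r`.
-/

set_option autoImplicit false
set_option linter.unusedSectionVars false

namespace Cfsg.Agent.Omega.NO3S.TwoMid.Inn.Grp

open Subgroup Cfsg Cfsg.Agent.ZN Cfsg.Agent.MinSimple.Geo Cfsg.Agent.Omega.CaseL Cfsg.Agent.Omega.NO3S.TwoOne
  Cfsg.Agent.Omega.NO3S.Pt
open Cfsg.Agent.Omega.NOThree.TF (Md MM pim md_MM conj_mem_ws_of_mem)
open Cfsg.Agent.Omega.NOThree.LL (Im toIm toIm_smul toIm_surj LamS UU mem_UU line_eq NoHP sys)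
open Cfsg.Agent.Omega.NOThree.LL.One (cv cm bb Sys ME Mv)
open Cfsg.Agent.Omega.NO3S.Dual (nn mem_nn)
open Cfsg.Agent.ZN.Block (conj_mem_of_normalizer conj_mem_of_normalizer' le_normalizer_of_forall
  mem_normalizer_of)
open Cfsg.Agent.Omega.NO3S.TwoMid.Inn.Geo

universe u v

variable {G : Type u} [Group G] {T V : Subgroup G} {z : G} {a b r x y e k g : G}

theorem line_le_ii {T V : Subgroup G} {z : G} (h : Fr T V z) (g : G) : cj g V ≤ ii (cj g V) := by
  intro a ha r hr hr1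
  rw [ws_cj]
  exact h.line_le_ws hr ha

section

variable {M : Type v} [AddCommGroup M] [DistribMulAction (centralizer ({b} : Set G)) M] {π : G → M}

/-- (F2') with an element of `K_x ∩ C(b)` -/
theorem f2_kq [Finite G] (h : Fr T V z) (md : Md V b π) (hp : b ∈ cj g V) (hp1 : b ≠ 1) (hx : x ∈ cj g V)
    (hx1 : x ≠ 1) {U : AddSubgroup M} (hU : ∀ m, m ∈ U ↔ ∃ a ∈ ii (cj g V), π a = m)
    (φ : M →+ ZMod 2) (hφ : φ (π x) = 0) :
    ∃ k : centralizer ({b} : Set G), (k : G) ∈ kq V x ∧ k • π x = π x ∧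
      ∀ u ∈ U, (φ u = 0 → k • u = u) ∧ (φ u ≠ 0 → k • u = u + π x) := by
  have hpc : Col V b b := Col.of_mem hp hp hp1 hp1
  have hxc : Col V x x := Col.of_mem hx hx hx1 hx1
  have hcx : Col V b x := Col.of_mem hp hx hp1 hx1
  have hle := h.ii_cj_le hp hp1
  have hlex := h.ii_cj_le hx hx1
  have hxw : x ∈ ws V b := h.mem_ws_of_col hcx
  have hpw : b ∈ ws V b := h.mem_ws_self hpc
  have hVi : cj g V ≤ ii (cj g V) := line_le_ii h g
  by_cases h0 : ∀ u ∈ U, φ u = 0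
  · exact ⟨1, one_mem _, one_smul _ _, fun u hu => ⟨fun _ => one_smul _ _, fun hn => absurd (h0 u hu) hn⟩⟩
  push Not at h0
  obtain ⟨u0, hu0, hφ0⟩ := h0
  obtain ⟨a0, ha0, rfl⟩ := (hU u0).1 hu0
  have hmul : ∀ a ∈ ii (cj g V), ∀ b ∈ ii (cj g V), φ (π (a * b)) = φ (π a) + φ (π b) := fun a ha b hb => by
    rw [md.map_mul a (hle ha) b (hle hb), map_add]
  let U' : Subgroup G :=
    { carrier := {a | a ∈ ii (cj g V) ∧ φ (π a) = 0}
      mul_mem' := fun {a b} ha hb => ⟨mul_mem ha.1 hb.1, by rw [hmul a ha.1 b hb.1, ha.2, hb.2, add_zero]⟩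
      one_mem' := ⟨one_mem _, by rw [md.map_one, map_zero]⟩
      inv_mem' := fun {a} ha => ⟨inv_mem ha.1, by
        have e := hmul a ha.1 a⁻¹ (inv_mem ha.1)
        rw [mul_inv_cancel, md.map_one, map_zero, ha.2, zero_add] at e
        exact e.symm⟩ }
  have hU' : U' ≤ ws V x := fun a ha => hlex ha.1
  have hxU' : x ∈ U' := ⟨hVi hx, hφ⟩
  have hpU' : b ∈ U' := ⟨hVi hp, by rw [md.map_p h hpc, map_zero]⟩
  have ha0x : a0 ∈ ws V x := hlex ha0
  have hnot : a0 ∉ U' ⊔ nn (ws V x) (kq V x) := by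
    intro hmem
    obtain ⟨a, ha, c, hb, e⟩ := NO3S.Dual.mem_sup_of_comm (h.ws_comm hxc) hU'
      (inf_le_left : nn (ws V x) (kq V x) ≤ ws V x) hmem
    have hbi : c ∈ ii (cj g V) := by
      have e1 : c = a⁻¹ * a0 := by rw [e]; group
      rw [e1]
      exact mul_mem (inv_mem ha.1) ha0
    have hb' := (mem_nn.1 hb).2
    have key : ∀ k ∈ kq V x, k * c * k⁻¹ ≠ x * c := by
      intro k hk e
      rw [NO3S.Dual.conj_eq_of_comm (hb' k hk)] at e
      exact hx1 (by simpa using e.symm)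
    have hbV : c ∈ cj g V := by
      by_contra hbV
      obtain ⟨k, hk, -, hkb⟩ := h.fu_cj hbi hbV hx hx1
      exact key k hk hkb
    have hbU : c ∈ U' := by
      by_cases hb1 : c = 1
      · rw [hb1]; exact one_mem _
      by_cases hbx : c = x
      · rw [hbx]; exact hxU'
      obtain ⟨k, hk, -, hkm⟩ := h.mover_cj hx hx1
      exact absurd (hkm c hbV hb1 hbx) (key k hk)
    have : a0 ∈ U' := by rw [e]; exact mul_mem ha hbU
    exact hφ0 this.2
  obtain ⟨k, hkq, hkU, hka⟩ := (h.dw hxc).exists_mover hU' ha0x hnot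
  have hkp : k ∈ centralizer ({b} : Set G) := by
    rw [mem_centralizer_singleton_iff]
    exact hkU b hpU'
  have hfix : ∀ a ∈ U', (⟨k, hkp⟩ : centralizer ({b} : Set G)) • π a = π a := by
    intro a ha
    rw [← md.smul ⟨k, hkp⟩ a (hle ha.1)]
    congr 1
    exact NO3S.Dual.conj_eq_of_comm (hkU a ha)
  refine ⟨⟨k, hkp⟩, hkq, hfix x hxU', fun u hu => ?_⟩
  obtain ⟨a, ha, rfl⟩ := (hU u).1 hu
  refine ⟨fun h1 => hfix a ⟨ha, h1⟩, fun h1 => ?_⟩
  have hz : ∀ t : ZMod 2, t ≠ 0 → t = 1 := by decide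
  have hb : a0⁻¹ * a ∈ U' := by
    refine ⟨mul_mem (inv_mem ha0) ha, ?_⟩
    have e0 : a0⁻¹ = a0 := inv_eq_of_mul_eq_one_left (h.ws_sq hxc a0 ha0x)
    rw [e0, hmul a0 ha0 a ha, hz _ hφ0, hz _ h1]
    decide
  rw [← md.smul ⟨k, hkp⟩ a (hle ha), ← add_comm, ← md.map_mul x hxw a (hle ha)]
  congr 1
  change k * a * k⁻¹ = x * a
  have e1 : k * (a0⁻¹ * a) * k⁻¹ = a0⁻¹ * a := NO3S.Dual.conj_eq_of_comm (hkU _ hb)
  calc k * a * k⁻¹ = (k * a0 * k⁻¹) * (k * (a0⁻¹ * a) * k⁻¹) := by group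
    _ = x * a := by rw [hka, e1]; group

variable (b) (M) in
/-- the image of `W_a ∩ C(b)` in the image of `C(b)` on `M_b` -/
def AI (V : Subgroup G) (a : G) : Subgroup (Im (centralizer ({b} : Set G)) M) :=
  ((ws V a).subgroupOf (centralizer ({b} : Set G))).map toIm

theorem mem_AI {c : Im (centralizer ({b} : Set G)) M} :
    c ∈ AI b M V a ↔ ∃ t : centralizer ({b} : Set G), (t : G) ∈ ws V a ∧ toIm t = c := by
  unfold AI
  rw [mem_map]
  exact Iff.rfl

variable (M) in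
/-- `A^ = ⟨A^k : k ∈ K_r ∩ C(b)⟩` -/
def AH (V : Subgroup G) (a r b : G) [DistribMulAction (centralizer ({b} : Set G)) M] :
    Subgroup (Im (centralizer ({b} : Set G)) M) := ⨆ k : JG V b r, AI b M V ((k : G) * a * (k : G)⁻¹)

theorem AI_le_AH (V : Subgroup G) (a r b : G) [DistribMulAction (centralizer ({b} : Set G)) M] :
    AI b M V a ≤ AH M V a r b := by
  have h1 := le_iSup (fun k : JG V b r => AI b M V ((k : G) * a * (k : G)⁻¹)) 1
  have h2 : ((1 : JG V b r) : G) * a * ((1 : JG V b r) : G)⁻¹ = a := by simp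
  rw [h2] at h1
  exact h1

variable [Finite G]

theorem finM (md : Md V b π) : Finite M := by
  refine Finite.of_surjective (fun a : ws V b => π a) fun m => ?_
  obtain ⟨a, ha, e⟩ := md.surj m
  exact ⟨⟨a, ha⟩, e⟩

/-- `x ∼ b` and `e ∈ W_b` with `π e = π x`: `e` is a point `∼ b`, `e ≠ b` -/
theorem col_of_pi (h : Fr T V z) (md : Md V b π) (hx : Col V b x) (hxb : x ≠ b) (he : e ∈ ws V b)
    (hex : π e = π x) : Col V b e ∧ e ≠ b := by
  have hxw := h.mem_ws_of_col hx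
  have hbb := h.pt_sq hx.left
  rcases (md.eq_iff h hx.left he hxw).1 hex with e1 | e1
  · rw [e1]; exact ⟨hx, hxb⟩
  · obtain ⟨g, hb, hx', hb1, hx1⟩ := hx
    have h1 : b * x ≠ 1 := fun e2 => hxb (by
      calc x = b * b * x := by rw [hbb, one_mul]
        _ = b := by rw [mul_assoc, e2, mul_one])
    rw [e1]
    exact ⟨⟨g, hb, mul_mem hb hx', hb1, h1⟩, fun e2 => hx1 (by simpa using e2)⟩

/-- collinearity is symmetric: `π x ∈ U_{π y}` implies `x ∼ y` or `π x = π y` -/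
theorem col_or (h : Fr T V z) (md : Md V b π) (hx : Col V b x) (hxb : x ≠ b) (hy : Col V b y) (hyb : y ≠ b)
    (hU : π x ∈ UU V b π (π y)) : π x = π y ∨ (π x ≠ π y ∧ Col V x y) := by
  obtain ⟨g, hb, hy', hb1, hy1⟩ := id hy
  rw [mem_UU h md hb hb1 hy' hy1 hyb] at hU
  obtain ⟨w, hw, hwx⟩ := hU
  have hxw := h.mem_ws_of_col hx
  have hww := h.ii_cj_le hb hb1 hw
  have hxi : x ∈ ii (cj g V) := by
    rcases (md.eq_iff h hx.left hww hxw).1 hwx with e1 | e1
    · rw [← e1]; exact hw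
    · have e2 : x = b⁻¹ * w := by rw [e1]; group
      rw [e2]
      exact mul_mem (inv_mem (line_le_ii h g hb)) hw
  by_cases hxV : x ∈ cj g V
  · left
    rcases four h hb hb1 hy' hy1 hyb hxV with e1 | e1 | e1 | e1
    · exact absurd e1 hx.right.ne_one
    · exact absurd e1 hxb
    · rw [e1]
    · exact (md.eq_iff h hx.left hxw (h.mem_ws_of_col hy)).2 (Or.inr e1)
  · by_cases he : π x = π y
    · exact Or.inl he
    · exact Or.inr ⟨he, col_all h hxi hxV hb hb1 hy' hy1 hx.symm⟩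

theorem mem_UU_of_col (h : Fr T V z) (md : Md V b π) (hx : Col V b x) (hxb : x ≠ b) (hy : Col V b y)
    (hxy : Col V x y) : π y ∈ UU V b π (π x) := by
  obtain ⟨g, hb, hx', hb1, hx1⟩ := id hx
  rw [mem_UU h md hb hb1 hx' hx1 hxb]
  exact ⟨y, h.mem_ii_cj hb hb1 hx' hx1 hxb (h.mem_ws_of_col hy) (h.mem_ws_of_col hxy), rfl⟩

/-- `U_{π r}` : the image of `W_b ∩ W_r` -/
theorem mem_UU' (h : Fr T V z) (md : Md V b π) (hx : Col V b x) (hxb : x ≠ b) (m : M) :
    m ∈ UU V b π (π x) ↔ ∃ w ∈ ws V b ⊓ ws V x, π w = m := by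
  obtain ⟨g, hb, hx', hb1, hx1⟩ := id hx
  rw [mem_UU h md hb hb1 hx' hx1 hxb]
  constructor
  · rintro ⟨w, hw, e⟩
    exact ⟨w, ⟨h.ii_cj_le hb hb1 hw, h.ii_cj_le hx' hx1 hw⟩, e⟩
  · rintro ⟨w, hw, e⟩
    exact ⟨w, h.mem_ii_cj hb hb1 hx' hx1 hxb hw.1 hw.2, e⟩

/-- `a W_b`-commutators -/
theorem smul_sub_eq (h : Fr T V z) (md : Md V b π) (hb : Col V b b) {t : centralizer ({b} : Set G)} {w : G}
    (hw : w ∈ ws V b) : (toIm t : Im (centralizer ({b} : Set G)) M) • π w - π w = π (w * t * w⁻¹ * (t : G)⁻¹) ∧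
      w * t * w⁻¹ * (t : G)⁻¹ ∈ ws V b := by
  have hc : (t : G) * w * (t : G)⁻¹ ∈ ws V b := conj_mem_ws_of_mem t.2 hw
  have e1 : w⁻¹ = w := inv_eq_of_mul_eq_one_left (h.ws_sq hb w hw)
  have e2 : w * t * w⁻¹ * (t : G)⁻¹ = w * ((t : G) * w * (t : G)⁻¹) := by rw [e1]; group
  rw [e2]
  refine ⟨?_, mul_mem hw hc⟩
  rw [md.map_mul _ hw _ hc, toIm_smul, ← md.smul t w hw, md.sub_eq h hb, add_comm]

theorem AI_le_bb (h : In T V z a r b) (md : Md V b π) : AI b M V a ≤ bb (UU V b π (π r)) := by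
  have hbb : Col V b b := h.rq.right
  have hbr := h.rq.symm
  have hne : r ≠ b := h.ne_rq
  intro c hc
  obtain ⟨t, ht, rfl⟩ := mem_AI.1 hc
  refine ⟨fun u hu => ?_, fun v => ?_⟩
  · rw [mem_UU' h.fr md hbr hne] at hu
    obtain ⟨w, hw, rfl⟩ := hu
    rw [toIm_smul, ← md.smul t w hw.1]
    congr 1
    exact NO3S.Dual.conj_eq_of_comm (h.toTwo.com h.pr t ht w hw.2)
  · obtain ⟨w, hw, rfl⟩ := md.surj v
    obtain ⟨h1, h2⟩ := smul_sub_eq h.fr md hbb (t := t) hw
    rw [h1, mem_UU' h.fr md hbr hne]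
    refine ⟨_, ⟨h2, h.inn ?_⟩, rfl⟩
    rw [rr_comm]
    exact comm_mem_rr hw ht

/-- exactness, the inequality -/
theorem card_AI_eq (h : Mid T V z a r b) (md : Md V b π) :
    Nat.card (AI b M V a) = (ws V a ⊓ centralizer (ws V b : Set G)).relIndex (ws V a) ∧
      (cv M (AI b M V a)).index = (ws V b ⊓ centralizer (ws V a : Set G)).relIndex (ws V b) := by
  have hbb : Col V b b := h.rq.right
  have hab : ws V a ≤ centralizer ({b} : Set G) := h.symm.cent
  constructor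
  · unfold AI
    rw [← relIndex_ker, ← relIndex_subgroupOf hab, ← inf_relIndex_right, ← inf_relIndex_right
      ((ws V a ⊓ centralizer (ws V b : Set G)).subgroupOf (centralizer ({b} : Set G)))]
    congr 1
    ext t
    rw [mem_inf, mem_inf, MonoidHom.mem_ker, mem_subgroupOf, mem_subgroupOf]
    refine and_congr_left fun ht => ?_
    constructor
    · intro hk
      have h1 : (t : G) ∈ ws V a ⊓ kq V b := ⟨ht, (md.mem_kq_iff h.fr hbb t).2 fun v => by
        rw [← toIm_smul, hk, one_smul]⟩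
      rw [h.inf_kq] at h1
      exact h1
    · intro hk
      refine Subtype.ext (Equiv.ext fun v => ?_)
      obtain ⟨w, hw, rfl⟩ := md.surj v
      change t • π w = π w
      rw [← md.smul t w hw]
      congr 1
      exact NO3S.Dual.conj_eq_of_comm (mem_centralizer_iff.1 hk.2 w hw).symm
  · refine md.index_eq_relIndex fun w hw => ?_
    have h1 : w ∈ cmod V b (ws V a) ↔ ∀ t ∈ ws V a, t * w * t⁻¹ * w⁻¹ ∈ zpowers b :=
      ⟨fun h1 => ((mem_cmod h.fr hbb).1 h1).2, fun h1 => (mem_cmod h.fr hbb).2 ⟨hw, h1⟩⟩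
    rw [← h.cmod_eq, h1]
    constructor
    · intro hc t ht
      have h3 := hc (toIm ⟨t, hab ht⟩) (mem_AI.2 ⟨⟨t, hab ht⟩, ht, rfl⟩)
      rw [toIm_smul, ← md.smul ⟨t, hab ht⟩ w hw, md.eq_iff h.fr hbb (conj_mem_ws_of_mem (hab ht) hw) hw] at h3
      rw [mem_zpowers_iff_of_mul_self (h.fr.pt_sq hbb)]
      rcases h3 with e | e
      · left
        change t * w * t⁻¹ = w at e
        rw [e, mul_inv_cancel]
      · right
        change t * w * t⁻¹ = b * w at e
        rw [e, mul_inv_cancel_right]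
    · intro hc c hc'
      obtain ⟨t, ht, rfl⟩ := mem_AI.1 hc'
      have h3 := hc t ht
      rw [mem_zpowers_iff_of_mul_self (h.fr.pt_sq hbb)] at h3
      rw [toIm_smul, ← md.smul t w hw, md.eq_iff h.fr hbb (conj_mem_ws_of_mem t.2 hw) hw]
      rcases h3 with e | e
      · left
        calc (t : G) * w * (t : G)⁻¹ = ((t : G) * w * (t : G)⁻¹ * w⁻¹) * w := by group
          _ = w := by rw [e, one_mul]
      · right
        calc (t : G) * w * (t : G)⁻¹ = ((t : G) * w * (t : G)⁻¹ * w⁻¹) * w := by group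
          _ = b * w := by rw [e]

theorem AI_ne_bot (h : Mid T V z a r b) (md : Md V b π) : AI b M V a ≠ ⊥ := by
  intro e1
  have h1 := (card_AI_eq h md).1
  rw [e1, Subgroup.card_bot] at h1
  have h2 := relIndex_eq_one.1 h1.symm
  apply h.ne
  intro c hc w hw
  exact (mem_centralizer_iff.1 (h2 hc).2 w hw).symm

theorem sys_of (h : Mid T V z a r b) (md : Md V b π) (hno : NoHP V b π) [Finite M] :
    Sys (Im (centralizer ({b} : Set G)) M) (LamS V b π) (UU V b π) :=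
  sys h.fr ⟨r, h.rq.symm, h.ne_rq⟩ md hno

theorem card_le_of (h : In T V z a r b) (md : Md V b π) (hno : NoHP V b π) :
    (ws V a ⊓ centralizer (ws V b : Set G)).relIndex (ws V a) ≤
      (ws V b ⊓ centralizer (ws V a : Set G)).relIndex (ws V b) := by
  have := finM md
  have s := sys_of h.toMid md hno
  have hl : π r ∈ LamS V b π := ⟨r, h.rq.symm, h.ne_rq, rfl⟩
  have h1 := s.no hl (AI b M V a) (AI_le_bb h md)
  obtain ⟨h2, h3⟩ := card_AI_eq h.toMid md
  rw [← h2, ← h3]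
  have h4 : 0 < Nat.card (cv M (AI b M V a)) := Nat.card_pos
  refine Nat.le_of_mul_le_mul_right ?_ h4
  rw [mul_comm (AddSubgroup.index _), AddSubgroup.card_mul_index]
  exact h1

end

/-- **exactness** of an inner pair -/
theorem card_AI {M M' : Type v} [AddCommGroup M] [DistribMulAction (centralizer ({b} : Set G)) M] {π : G → M}
    [AddCommGroup M'] [DistribMulAction (centralizer ({a} : Set G)) M'] {π' : G → M'} [Finite G]
    (h : In T V z a r b) (md : Md V b π) (hno : NoHP V b π) (md' : Md V a π') (hno' : NoHP V a π') :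
    Nat.card (AI b M V a) * Nat.card (cv M (AI b M V a)) = Nat.card M := by
  have h1 := card_le_of h md hno
  have h2 := card_le_of h.symm md' hno'
  obtain ⟨h3, h4⟩ := card_AI_eq h.toMid md
  rw [h3, le_antisymm h1 h2, ← h4, mul_comm]
  exact AddSubgroup.card_mul_index _

/-- **(NO)** for all points, in the form of `LL.InstOne` -/
def NoM (V : Subgroup G) : Prop := ∀ p, Col V p p → NoHP V p (pim V p)

/-- join of exact subgroups of `B_λ` -/
theorem join {H M : Type*} [Group H] [AddCommGroup M] [DistribMulAction H M] [Finite H] [Finite M] {Lam : Set M}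
    {U : M → AddSubgroup M} {lam : M} (s : Sys H Lam U) (hl : lam ∈ Lam) {X Y : Subgroup H}
    (hX : X ≤ bb (U lam) ∧ Nat.card X * Nat.card (cv M X) = Nat.card M)
    (hY : Y ≤ bb (U lam) ∧ Nat.card Y * Nat.card (cv M Y) = Nat.card M) :
    X ⊔ Y ≤ bb (U lam) ∧ Nat.card (X ⊔ Y : Subgroup H) * Nat.card (cv M (X ⊔ Y)) = Nat.card M := by
  have hXY : X ⊔ Y ≤ bb (U lam) := sup_le hX.1 hY.1
  have hI : X ⊓ Y ≤ bb (U lam) := inf_le_left.trans hX.1
  have h1 : Nat.card X * Nat.card Y ≤ Nat.card (X ⊔ Y : Subgroup H) * Nat.card (X ⊓ Y : Subgroup H) := by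
    rw [← Lib.ProductSet.card_mul_card_inf X Y]
    refine Nat.mul_le_mul_right _ ?_
    refine Nat.card_mono (Set.toFinite _) ?_
    rintro _ ⟨x, hx, y, hy, rfl⟩
    exact Subgroup.mul_mem_sup hx hy
  have h2 : Nat.card (cv M X) * Nat.card (cv M Y) ≤
      Nat.card (cv M (X ⊓ Y)) * Nat.card (cv M (X ⊔ Y)) := by
    rw [← NOThree.LL.One.card_sup_inf]
    refine Nat.mul_le_mul (NOThree.LL.One.card_le (sup_le (NOThree.LL.One.cv_anti inf_le_left)
      (NOThree.LL.One.cv_anti inf_le_right))) (NOThree.LL.One.card_le ?_)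
    rintro m ⟨h3, h4⟩
    have h5 : X ⊔ Y ≤ MulAction.stabilizer H m := sup_le (fun x hx => h3 x hx) fun y hy => h4 y hy
    exact fun a ha => h5 ha
  have h3 := s.no hl _ hXY
  have h4 := s.no hl _ hI
  have h5 := hX.2
  have h6 := hY.2
  have hM : 0 < Nat.card M := Nat.card_pos
  refine ⟨hXY, le_antisymm h3 ?_⟩
  refine Nat.le_of_mul_le_mul_right ?_ hM
  calc Nat.card M * Nat.card M = (Nat.card X * Nat.card Y) * (Nat.card (cv M X) * Nat.card (cv M Y)) := by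
        rw [← h5]; nth_rewrite 2 [h5]; rw [← h6]; ring
    _ ≤ (Nat.card (X ⊔ Y : Subgroup H) * Nat.card (X ⊓ Y : Subgroup H)) *
        (Nat.card (cv M (X ⊓ Y)) * Nat.card (cv M (X ⊔ Y))) := Nat.mul_le_mul h1 h2
    _ = (Nat.card (X ⊔ Y : Subgroup H) * Nat.card (cv M (X ⊔ Y))) *
        (Nat.card (X ⊓ Y : Subgroup H) * Nat.card (cv M (X ⊓ Y))) := by ring
    _ ≤ _ := Nat.mul_le_mul_left _ h4

theorem iSup_ind {ι : Type*} {α : Type*} [CompleteLattice α] [Finite ι] [Nonempty ι] {P : α → Prop}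
    (hP : ∀ X Y, P X → P Y → P (X ⊔ Y)) {f : ι → α} (hf : ∀ i, P (f i)) : P (⨆ i, f i) := by
  cases nonempty_fintype ι
  rw [← Finset.sup'_univ_eq_ciSup]
  exact Finset.sup'_induction _ _ (fun X hX Y hY => hP X Y hX hY) fun i _ => hf i

section

variable {M : Type v} [AddCommGroup M] [DistribMulAction (centralizer ({b} : Set G)) M] {π : G → M}

/-- the image in `M_b` of a subgroup of `W_b` -/
def img (h : Fr T V z) (md : Md V b π) (hb : Col V b b) (E : Subgroup G) (hE : E ≤ ws V b) : AddSubgroup M where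
  carrier := {m | ∃ e ∈ E, π e = m}
  add_mem' := by
    rintro _ _ ⟨x, hx, rfl⟩ ⟨y, hy, rfl⟩
    exact ⟨x * y, mul_mem hx hy, md.map_mul x (hE hx) y (hE hy)⟩
  zero_mem' := ⟨1, one_mem _, md.map_one⟩
  neg_mem' := by
    rintro _ ⟨x, hx, rfl⟩
    exact ⟨x, hx, (md.neg_eq h hb _).symm⟩

theorem mem_img {h : Fr T V z} {md : Md V b π} {hb : Col V b b} {E : Subgroup G} {hE : E ≤ ws V b} {m : M} :
    m ∈ img h md hb E hE ↔ ∃ e ∈ E, π e = m := Iff.rfl

variable [Finite G]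

/-- `[M, A]` is the image of `[W_a, W_b]` -/
theorem exists_of_cm (h : Mid T V z a r b) (md : Md V b π) {m : M} (hm : m ∈ cm M (AI b M V a)) :
    ∃ e ∈ rr V a b, π e = m := by
  have h1 : cm M (AI b M V a) ≤ img h.fr md h.rq.right (rr V a b) (h.rr_le.trans inf_le_right) := by
    refine NOThree.LL.One.cm_le fun c hc v => ?_
    obtain ⟨t, ht, rfl⟩ := mem_AI.1 hc
    obtain ⟨w, hw, rfl⟩ := md.surj v
    obtain ⟨h1, h2⟩ := smul_sub_eq h.fr md h.rq.right (t := t) hw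
    rw [h1]
    refine ⟨_, ?_, rfl⟩
    rw [rr_comm]
    exact comm_mem_rr hw ht
  exact h1 hm

/-- `[M, A^] ≤` the image of `[W_a, W_b]⟨r⟩` -/
theorem exists_of_cm_AH (h : In T V z a r b) (md : Md V b π) [Finite M]
    (s : Sys (Im (centralizer ({b} : Set G)) M) (LamS V b π) (UU V b π)) {m : M}
    (hm : m ∈ cm M (AH M V a r b)) : ∃ e ∈ rr V a b ⊔ zpowers r, π e = m := by
  have h1 : AH M V a r b ≤ NOThree.LL.One.Fx.tb s (π r) (img h.fr md h.rq.right (rr V a b ⊔ zpowers r)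
      (h.dr_le.trans inf_le_right)) := by
    refine iSup_le fun k c hc => ?_
    refine ⟨AI_le_bb (h.jg k.2) md hc, fun v => ?_⟩
    obtain ⟨t, ht, rfl⟩ := mem_AI.1 hc
    obtain ⟨w, hw, rfl⟩ := md.surj v
    obtain ⟨h1, h2⟩ := smul_sub_eq h.fr md h.rq.right (t := t) hw
    rw [h1]
    refine ⟨_, h.jg_rr k.2 ?_, rfl⟩
    rw [rr_comm]
    exact comm_mem_rr hw ht
  have h2 : cm M (AH M V a r b) ≤ img h.fr md h.rq.right (rr V a b ⊔ zpowers r) (h.dr_le.trans inf_le_right) :=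
    NOThree.LL.One.cm_le fun c hc v => (h1 hc).2 v
  exact h2 hm

theorem AH_le_bb (h : In T V z a r b) (md : Md V b π) : AH M V a r b ≤ bb (UU V b π (π r)) :=
  iSup_le fun k => AI_le_bb (h.jg k.2) md

/-- (***) -/
theorem star (h : In T V z a r b) (md : Md V b π) [Finite M]
    (s : Sys (Im (centralizer ({b} : Set G)) M) (LamS V b π) (UU V b π)) {v : M} (hv : v ∈ LamS V b π)
    (hv2 : v ∈ cm M (AH M V a r b)) {c : Im (centralizer ({b} : Set G)) M} (hc : c ∈ AH M V a r b) {u : M}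
    (hu : u ∈ UU V b π v) : c • u = u := by
  obtain ⟨e, he, rfl⟩ := exists_of_cm_AH h md s hv2
  obtain ⟨x, hx, hxb, hxe⟩ := hv
  have he3 := h.dr_le he
  obtain ⟨hbe, heb⟩ := col_of_pi h.fr md hx hxb he3.2 hxe.symm
  rw [mem_UU' h.fr md hbe heb] at hu
  obtain ⟨w, hw, rfl⟩ := hu
  have h1 : AH M V a r b ≤ MulAction.stabilizer _ (π w) := by
    refine iSup_le fun k c hc => ?_
    obtain ⟨t, ht, rfl⟩ := mem_AI.1 hc
    rw [MulAction.mem_stabilizer_iff, toIm_smul, ← md.smul t w hw.1]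
    congr 1
    exact NO3S.Dual.conj_eq_of_comm (h.jg_com k.2 he3 hbe t ht w hw.2)
  exact h1 hc

theorem cj_AH [Finite M] {k : centralizer ({b} : Set G)} (hk : (k : G) ∈ kq V r) :
    NOThree.LL.One.cj (toIm k) (AH M V a r b) ≤ AH M V a r b := by
  have key : AH M V a r b ≤ NOThree.LL.One.cj (toIm k)⁻¹ (AH M V a r b) := by
    refine iSup_le fun j c hc => ?_
    obtain ⟨t, ht, rfl⟩ := mem_AI.1 hc
    rw [NOThree.LL.One.mem_cj, inv_inv]
    have hj : (k : G) * j ∈ JG V b r := mul_mem ⟨hk, k.2⟩ j.2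
    refine le_iSup (fun k : JG V b r => AI b M V ((k : G) * a * (k : G)⁻¹)) ⟨(k : G) * j, hj⟩ ?_
    rw [mem_AI]
    refine ⟨k * t * k⁻¹, ?_, by rw [map_mul, map_mul, map_inv]⟩
    have h1 := conj_mem_ws (k : G) ht
    have h2 : (k : G) * ((j : G) * a * (j : G)⁻¹) * (k : G)⁻¹ = ((k : G) * j) * a * ((k : G) * j)⁻¹ := by group
    rw [h2] at h1
    exact h1
  intro x hx
  rw [NOThree.LL.One.mem_cj] at hx
  have h1 := key hx
  rw [NOThree.LL.One.mem_cj] at h1
  have h2 : (toIm k : Im (centralizer ({b} : Set G)) M)⁻¹⁻¹ * ((toIm k)⁻¹ * x * toIm k) * (toIm k)⁻¹ = x := by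
    group
  rwa [h2] at h1

end

/-- **`Ih` for an inner pair** -/
theorem ih [Finite G] (h : In T V z a r b) (hNO : NoM V) :
    Reg.Ih (LamS V b (pim V b)) (UU V b (pim V b)) (pim V b r) (AH (MM V b) V a r b) := by
  have hbb : Col V b b := h.rq.right
  have md : Md V b (pim V b) := md_MM h.fr hbb
  have hno := hNO b hbb
  have s := sys_of h.toMid md hno
  have hl : pim V b r ∈ LamS V b (pim V b) := ⟨r, h.rq.symm, h.ne_rq, rfl⟩
  refine ⟨s, hl, AH_le_bb h md, ?_, ?_, fun hv hv2 c hc u hu => star h md s hv hv2 hc hu, fun φ hφ => ?_⟩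
  · have h1 := iSup_ind (P := fun X : Subgroup (Im (centralizer ({b} : Set G)) (MM V b)) =>
      X ≤ bb (UU V b (pim V b) (pim V b r)) ∧ Nat.card X * Nat.card (cv (MM V b) X) = Nat.card (MM V b))
      (fun X Y hX hY => join s hl hX hY) (f := fun k : JG V b r => AI b (MM V b) V ((k : G) * a * (k : G)⁻¹))
      fun k => ⟨AI_le_bb (h.jg k.2) md, card_AI (h.jg k.2) md hno (md_MM h.fr (h.jg k.2).pr.left)
        (hNO _ (h.jg k.2).pr.left)⟩
    exact h1.2
  · rintro ν μ ⟨x, hx, hxb, rfl⟩ ⟨y, hy, hyb, rfl⟩ hU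
    rcases col_or h.fr md hx hxb hy hyb hU with h1 | ⟨-, h1⟩
    · rw [← h1]
      exact s.mem ⟨x, hx, hxb, rfl⟩
    · exact mem_UU_of_col h.fr md hx hxb hy h1
  · obtain ⟨g, hr, hb, hr1, hb1⟩ := h.rq
    obtain ⟨k, hk, h1, h2⟩ := f2_kq h.fr md hb hb1 hr hr1 (mem_UU h.fr md hb hb1 hr hr1 h.ne_rq) φ hφ
    exact ⟨toIm k, h1, h2, cj_AH hk⟩

/-- the image of `W_a` is exact -/
theorem ex_AI [Finite G] (h : In T V z a r b) (hNO : NoM V) :
    Reg.Ex (MM V b) (AH (MM V b) V a r b) (AI b (MM V b) V a) :=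
  ⟨AI_le_AH V a r b, card_AI h (md_MM h.fr h.rq.right) (hNO b h.rq.right) (md_MM h.fr h.pr.left) (hNO a h.pr.left)⟩

end Cfsg.Agent.Omega.NO3S.TwoMid.Inn.Grp
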