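import Cfsg.Agent.Omega.NOThree.LL.One
import Cfsg.Agent.Lib.ProductSet

/-!
# NO-3S TwoMid: inner pairs, REG (helper144, bb #18799 (1), (2); after helper430, bb #17614)

`Sys H Lam U` of `NOThree/LL/One.lean`; `Ih Lam U lam Ah`: an exact `Ah ≤ B_λ`, normalised by elements inducing every
`u ↦ u + φ(u)λ` on `U_λ`, with (***) `v ∈ [M, Ah] ∩ Λ ⟹ Ah` centralises `U_v`.

* `Fz.ca_ex`: for an exact `X ≤ Ah` and `f ∈ X#` inverting `h`, `C_X(μ)` (`μ = h λ`) is exact and centralises `Z_μ`;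
* `Fy.card_A`: for a minimal exact (atom) `A ≤ Ah`: `|A| |U_λ ∩ U_μ| = |U_λ|`, `U_λ = [μ, A] ⊕ (U_λ ∩ U_μ)`,
  `M = U_μ + C_M(A)`;
* `Ih.cv_eq`: `C_M(a) = C_M(A)` for `a ∈ A#`; `Fy.four_a`: an exact `X`, `A ≤ X ≤ Ah`, acts on `U_μ` as `A`.
-/

set_option autoImplicit false
set_option linter.unusedSectionVars false

namespace Cfsg.Agent.Omega.NO3S.TwoMid.Inn.Reg

open Cfsg.Agent.Omega.NOThree.LL.One
open Cfsg.Agent.Omega.NOThree.LL.One.Fx (card_eq_of_smul smul_sub_conj f'_sq card_Z f'_f')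

variable {H : Type*} {M : Type*} [Group H] [AddCommGroup M] [DistribMulAction H M]

/-- An inner pair, seen in `M_b`. -/
structure Ih [Finite H] [Finite M] (Lam : Set M) (U : M → AddSubgroup M) (lam : M) (Ah : Subgroup H) : Prop where
  s : Sys H Lam U
  hl : lam ∈ Lam
  le : Ah ≤ bb (U lam)
  ex : Nat.card Ah * Nat.card (cv M Ah) = Nat.card M
  /-- collinearity -/
  col : ∀ {ν μ : M}, ν ∈ Lam → μ ∈ Lam → ν ∈ U μ → μ ∈ U ν
  /-- (***) -/
  star : ∀ {v : M}, v ∈ Lam → v ∈ cm M Ah → ∀ a ∈ Ah, ∀ u ∈ U v, a • u = u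
  /-- (F2') inside the normaliser of `Ah` -/
  J : ∀ φ : M →+ ZMod 2, φ lam = 0 → ∃ k : H, k • lam = lam ∧
    (∀ u ∈ U lam, (φ u = 0 → k • u = u) ∧ (φ u ≠ 0 → k • u = u + lam)) ∧ cj k Ah ≤ Ah

variable (M) in
/-- exact subgroups of `Ah` -/
structure Ex (Ah X : Subgroup H) : Prop where
  le : X ≤ Ah
  ex : Nat.card X * Nat.card (cv M X) = Nat.card M

variable [Finite H] [Finite M] {Lam : Set M} {U : M → AddSubgroup M} {lam : M} {Ah A X : Subgroup H} {f h : H}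

/-- (1): no line vector in `[M, Ah] ∩ U_λ ∩ U_μ` -/
theorem Ih.notLam (i : Ih Lam U lam Ah) (v : Mv Lam U lam f h) (hf : f ∈ Ah) {r : M} (hr : r ∈ cm M Ah)
    (hD : r ∈ U lam ⊓ U (h • lam)) : r ∉ Lam := fun h1 =>
  v.fmov i.s (i.star h1 hr f hf _ (i.col h1 (i.s.smul h i.hl) hD.2))

/-- (NO) -/
theorem Ih.no (i : Ih Lam U lam Ah) (hX : X ≤ Ah) : Nat.card X * Nat.card (cv M X) ≤ Nat.card M :=
  i.s.no i.hl X (hX.trans i.le)

theorem Ih.comm (i : Ih Lam U lam Ah) {a b : H} (ha : a ∈ Ah) (hb : b ∈ Ah) : a * b = b * a :=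
  i.s.comm (i.le ha) (i.le hb)

/-- join and meet of exact subgroups -/
theorem Ih.join (i : Ih Lam U lam Ah) {Y : Subgroup H} (hX : Ex M Ah X) (hY : Ex M Ah Y) :
    Ex M Ah (X ⊔ Y) ∧ Ex M Ah (X ⊓ Y) := by
  have hXY : X ⊔ Y ≤ Ah := sup_le hX.le hY.le
  have hI : X ⊓ Y ≤ Ah := inf_le_left.trans hX.le
  have h1 : Nat.card X * Nat.card Y ≤ Nat.card (X ⊔ Y : Subgroup H) * Nat.card (X ⊓ Y : Subgroup H) := by
    rw [← Lib.ProductSet.card_mul_card_inf X Y]
    refine Nat.mul_le_mul_right _ ?_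
    refine Nat.card_mono (Set.toFinite _) ?_
    rintro _ ⟨x, hx, y, hy, rfl⟩
    exact Subgroup.mul_mem_sup hx hy
  have h2 : Nat.card (cv M X) * Nat.card (cv M Y) ≤
      Nat.card (cv M (X ⊓ Y)) * Nat.card (cv M (X ⊔ Y)) := by
    rw [← card_sup_inf]
    refine Nat.mul_le_mul (card_le (sup_le (cv_anti inf_le_left) (cv_anti inf_le_right))) (card_le ?_)
    rintro m ⟨h3, h4⟩
    have h5 : X ⊔ Y ≤ MulAction.stabilizer H m := sup_le (fun x hx => h3 x hx) fun y hy => h4 y hy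
    exact fun a ha => h5 ha
  have h3 := i.no hXY
  have h4 := i.no hI
  have h5 := hX.ex
  have h6 := hY.ex
  have hM : 0 < Nat.card M := Nat.card_pos
  generalize Nat.card X = x at *
  generalize Nat.card Y = y at *
  generalize e1 : Nat.card (X ⊔ Y : Subgroup H) = p at *
  generalize e2 : Nat.card (X ⊓ Y : Subgroup H) = q at *
  generalize Nat.card (cv M X) = cx at *
  generalize Nat.card (cv M Y) = cy at *
  generalize e3 : Nat.card (cv M (X ⊓ Y)) = cq at *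
  generalize e4 : Nat.card (cv M (X ⊔ Y)) = cp at *
  generalize e5 : Nat.card M = m at *
  have k1 : m * m ≤ (p * cp) * (q * cq) := by
    calc m * m = (x * cx) * (y * cy) := by rw [h5, h6]
      _ = (x * y) * (cx * cy) := by ring
      _ ≤ (p * q) * (cq * cp) := Nat.mul_le_mul h1 h2
      _ = (p * cp) * (q * cq) := by ring
  have k2 : p * cp = m := by
    refine le_antisymm h3 ?_
    refine Nat.le_of_mul_le_mul_right (k1.trans ?_) hM
    exact Nat.mul_le_mul_left _ h4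
  have k3 : q * cq = m := by
    refine le_antisymm h4 ?_
    refine Nat.le_of_mul_le_mul_left (k1.trans ?_) hM
    exact Nat.mul_le_mul_right _ h3
  exact ⟨⟨hXY, by rw [e1, e4, e5, k2]⟩, ⟨hI, by rw [e2, e3, e5, k3]⟩⟩

/-! ### exact subgroups -/

/-- `X ≤ Ah` exact, `f ∈ X#` inverts `h`. -/
structure Fz [Finite H] [Finite M] (Lam : Set M) (U : M → AddSubgroup M) (lam : M) (Ah X : Subgroup H) (f h : H) :
    Prop where
  i : Ih Lam U lam Ah
  e : Ex M Ah X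
  v : Mv Lam U lam f h
  fX : f ∈ X

/-- `Z_μ = [λ, B_μ] + (U_λ ∩ U_μ)` -/
abbrev zz (U : M → AddSubgroup M) (lam mu : M) : AddSubgroup M :=
  cs (U mu) lam (bb (U mu) : Subgroup H) le_rfl ⊔ (U lam ⊓ U mu)

theorem card_U (s : Sys H Lam U) (hl : lam ∈ Lam) (h : H) : Nat.card (U (h • lam)) = Nat.card (U lam) :=
  Nat.card_congr
    { toFun := fun u => ⟨h⁻¹ • (u : M), s.mem_smul h hl u.2⟩
      invFun := fun u => ⟨h • (u : M), s.conj h hl u.2⟩
      left_inv := fun u => Subtype.ext (smul_inv_smul h (u : M))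
      right_inv := fun u => Subtype.ext (inv_smul_smul h (u : M)) }

namespace Fz

theorem le (x : Fz Lam U lam Ah X f h) : X ≤ bb (U lam) := x.e.le.trans x.i.le

theorem fA (x : Fz Lam U lam Ah X f h) : f ∈ Ah := x.e.le x.fX

theorem hT (x : Fz Lam U lam Ah X f h) : ∀ r ∈ cm M Ah, r ∈ U lam ⊓ U (h • lam) → r ∉ Lam := fun _ hr hD =>
  x.i.notLam x.v x.fA hr hD

theorem cvD (x : Fz Lam U lam Ah X f h) : U (h • lam) ⊓ cv M X = U lam ⊓ U (h • lam) := by
  refine le_antisymm ?_ ?_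
  · rintro u ⟨h1, h2⟩
    exact ⟨(x.v.fix x.i.s h1 (h2 f x.fX)).2, h1⟩
  · rintro u ⟨h1, h2⟩
    exact ⟨h2, le_cv_of_le_bb x.le h1⟩

/-- (2)(i) -/
theorem two_i (x : Fz Lam U lam Ah X f h) {e : H} (he : e ∈ Ah)
    (h1 : e • h • lam - h • lam ∈ U lam ⊓ U (h • lam)) : e • h • lam = h • lam :=
  x.v.two_i x.i.s x.hT (fun m => sub_mem_cm he m) h1

/-- (2)(ii) -/
theorem two_ii (x : Fz Lam U lam Ah X f h) {e : H} (he : e ∈ Ah) (hm : e • h • lam = h • lam) {g : H}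
    (hg : g ∈ (bb (U (h • lam)) : Subgroup H)) : e • (g • lam - lam) = g • lam - lam :=
  x.v.two_ii x.i.s x.hT (x.i.le he) (fun m => sub_mem_cm he m) hm hg

theorem disj (x : Fz Lam U lam Ah X f h) : cs (U lam) (h • lam) X x.le ⊓ (U lam ⊓ U (h • lam)) = ⊥ := by
  rw [eq_bot_iff]
  rintro u ⟨⟨a, ha, rfl⟩, h2⟩
  rw [AddSubgroup.mem_bot, sub_eq_zero]
  exact x.two_i (x.e.le ha) h2

theorem f_notMem (x : Fz Lam U lam Ah X f h) : f ∉ ca (h • lam) X := fun h1 => x.v.fmov x.i.s h1.2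

theorem card_cs (x : Fz Lam U lam Ah X f h) :
    Nat.card X = Nat.card (ca (h • lam) X) * Nat.card (cs (U lam) (h • lam) X x.le) :=
  Cfsg.Agent.Omega.NOThree.LL.One.card_cs (m := h • lam) x.le

theorem z_le (x : Fz Lam U lam Ah X f h) :
    zz (H := H) U lam (h • lam) ≤ cv M (ca (h • lam) X) := by
  refine sup_le ?_ fun u hu a ha => bb_fix (x.le ha.1) hu.1
  rintro _ ⟨g, hg, rfl⟩ b hb
  exact x.two_ii (x.e.le hb.1) hb.2 hg

/-- (2)(iii): `C_X(μ)` is exact, `C_M(C_X(μ)) = Z_μ + C_M(X)`, `|Z_μ| = |[μ, X]| |U_λ ∩ U_μ|`. -/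
theorem ca_ex (x : Fz Lam U lam Ah X f h) :
    Ex M Ah (ca (h • lam) X) ∧ cv M (ca (h • lam) X) = zz (H := H) U lam (h • lam) ⊔ cv M X ∧
      Nat.card (zz (H := H) U lam (h • lam)) =
        Nat.card (cs (U lam) (h • lam) X x.le) * Nat.card (U lam ⊓ U (h • lam) : AddSubgroup M) := by
  have s := x.i.s
  have h2 := x.card_cs
  have h3 := card_Z s x.v
  have h4 : Nat.card (cs (U lam) (h • lam) X x.le) * Nat.card (U lam ⊓ U (h • lam) : AddSubgroup M) ≤
      Nat.card (zz (H := H) U lam (h • lam)) := by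
    rw [← h3, ← card_sup_of_disj x.disj]
    exact card_le (sup_le_sup_right (fun u hu => by
      obtain ⟨a, ha, h5⟩ := hu
      exact ⟨a, x.le ha, h5⟩) _)
  have h5 := x.z_le
  have h6 : zz (H := H) U lam (h • lam) ⊓ cv M X = U lam ⊓ U (h • lam) := by
    refine le_antisymm ?_ (le_inf le_sup_right (le_trans inf_le_left (le_cv_of_le_bb x.le)))
    conv_rhs => rw [← x.cvD]
    exact inf_le_inf_right _ (sup_le cs_le inf_le_right)
  have h7 := card_sup_inf (zz (H := H) U lam (h • lam)) (cv M X)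
  rw [h6] at h7
  have h8' := sup_le h5 (cv_anti (M := M) (inf_le_left : ca (h • lam) X ≤ X))
  have h8 := card_le h8'
  have h9 := x.e.ex
  have hle : ca (h • lam) X ≤ Ah := inf_le_left.trans x.e.le
  have h10 := x.i.no hle
  have hd : 0 < Nat.card (U lam ⊓ U (h • lam) : AddSubgroup M) := Nat.card_pos
  have hp : 0 < Nat.card (ca (h • lam) X) := Nat.card_pos
  have hc : 0 < Nat.card (cv M X) := Nat.card_pos
  rw [h2] at h9
  suffices key : Nat.card (ca (h • lam) X) * Nat.card (cv M (ca (h • lam) X)) = Nat.card M ∧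
      Nat.card (cv M (ca (h • lam) X)) ≤ Nat.card (zz (H := H) U lam (h • lam) ⊔ cv M X : AddSubgroup M) ∧
      Nat.card (zz (H := H) U lam (h • lam)) =
        Nat.card (cs (U lam) (h • lam) X x.le) * Nat.card (U lam ⊓ U (h • lam) : AddSubgroup M) by
    exact ⟨⟨hle, key.1⟩, (eq_of_card_le h8' key.2.1).symm, key.2.2⟩
  clear h2 h3 h5 h6 h8'
  generalize Nat.card (U lam ⊓ U (h • lam) : AddSubgroup M) = d at *
  generalize Nat.card (ca (h • lam) X) = p at *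
  generalize Nat.card (cv M (ca (h • lam) X)) = t at *
  generalize Nat.card (cs (U lam) (h • lam) X x.le) = a at *
  generalize Nat.card (zz (H := H) U lam (h • lam) ⊔ cv M X : AddSubgroup M) = w at *
  generalize Nat.card (zz (H := H) U lam (h • lam)) = z at *
  generalize Nat.card (cv M X) = c at *
  generalize Nat.card M = m at *
  -- p * a * c = m, a * d ≤ z, w * d = z * c, w ≤ t, p * t ≤ m
  have k1 : p * (a * d) * c ≤ p * z * c := Nat.mul_le_mul_right _ (Nat.mul_le_mul_left _ h4)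
  have k2 : p * z * c = p * w * d := by rw [mul_assoc, ← h7, ← mul_assoc]
  have k3 : p * w * d ≤ p * t * d := Nat.mul_le_mul_right _ (Nat.mul_le_mul_left _ h8)
  have k4 : p * t * d ≤ m * d := Nat.mul_le_mul_right _ h10
  have k5 : p * (a * d) * c = m * d := by rw [← h9]; ring
  have k6 : p * t = m := Nat.eq_of_mul_eq_mul_right hd (by omega)
  have k7 : p * w * d = p * t * d := by omega
  have k8 : w = t := Nat.eq_of_mul_eq_mul_left hp (Nat.eq_of_mul_eq_mul_right hd k7)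
  have k9 : p * z * c = p * (a * d) * c := by omega
  exact ⟨k6, k8.ge, Nat.eq_of_mul_eq_mul_left hp (Nat.eq_of_mul_eq_mul_right hc k9)⟩

end Fz

/-! ### atoms -/

/-- `A ≤ Ah` minimal exact, `f ∈ A#` inverts `h`. -/
structure Fy [Finite H] [Finite M] (Lam : Set M) (U : M → AddSubgroup M) (lam : M) (Ah A : Subgroup H) (f h : H) :
    Prop where
  i : Ih Lam U lam Ah
  hA : A ≤ Ah
  me : ME U lam A
  v : Mv Lam U lam f h
  fA : f ∈ A

namespace Fy

theorem z (x : Fy Lam U lam Ah A f h) : Fz Lam U lam Ah A f h := ⟨x.i, ⟨x.hA, x.me.ex⟩, x.v, x.fA⟩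

theorem cvD (x : Fy Lam U lam Ah A f h) : U (h • lam) ⊓ cv M A = U lam ⊓ U (h • lam) := x.z.cvD

theorem disj (x : Fy Lam U lam Ah A f h) : cs (U lam) (h • lam) A x.me.le ⊓ (U lam ⊓ U (h • lam)) = ⊥ := x.z.disj

theorem ca_eq_bot (x : Fy Lam U lam Ah A f h) : ca (h • lam) A = ⊥ := by
  by_contra hP
  have hP' : ca (h • lam) A ≠ A := fun h1 => x.z.f_notMem (by rw [h1]; exact x.fA)
  have h1 := x.me.min (ca (h • lam) A) inf_le_left hP hP'
  rw [x.z.ca_ex.1.ex] at h1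
  exact lt_irrefl _ h1

/-- the cardinalities of (2) -/
theorem card_A (x : Fy Lam U lam Ah A f h) :
    Nat.card A * Nat.card (U lam ⊓ U (h • lam) : AddSubgroup M) = Nat.card (U lam) ∧
      cs (U lam) (h • lam) A x.me.le ⊔ (U lam ⊓ U (h • lam)) = U lam ∧ U (h • lam) ⊔ cv M A = ⊤ ∧
      Nat.card (cs (U lam) (h • lam) A x.me.le) = Nat.card A := by
  have h1 := x.z.card_cs
  rw [x.ca_eq_bot, Subgroup.card_bot, one_mul] at h1
  have h2 := card_sup_of_disj x.disj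
  have h3 := card_sup_inf (U (h • lam)) (cv M A)
  rw [x.cvD, card_U x.i.s x.i.hl] at h3
  have h4 : cs (U lam) (h • lam) A x.me.le ⊔ (U lam ⊓ U (h • lam)) ≤ U lam := sup_le cs_le inf_le_left
  have h5 := card_le h4
  have h6 : Nat.card (U (h • lam) ⊔ cv M A : AddSubgroup M) ≤ Nat.card M :=
    Nat.card_le_card_of_injective _ Subtype.val_injective
  have h7 := x.me.ex
  have hd : 0 < Nat.card (U lam ⊓ U (h • lam) : AddSubgroup M) := Nat.card_pos
  have hc : 0 < Nat.card (cv M A) := Nat.card_pos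
  rw [h2, ← h1] at h5
  rw [← h1] at h2
  have h8 : Nat.card (U lam) * Nat.card (cv M A) ≤
      Nat.card A * Nat.card (U lam ⊓ U (h • lam) : AddSubgroup M) * Nat.card (cv M A) := by
    rw [← h3, mul_right_comm, h7]
    exact Nat.mul_le_mul_right _ h6
  have h9 := le_antisymm h5 (Nat.le_of_mul_le_mul_right h8 hc)
  refine ⟨h9, eq_of_card_le h4 (by rw [h2, h9]), ?_, h1.symm⟩
  refine AddSubgroup.eq_top_of_le_card _ ?_
  have h10 : Nat.card M * Nat.card (U lam ⊓ U (h • lam) : AddSubgroup M) ≤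
      Nat.card (U (h • lam) ⊔ cv M A : AddSubgroup M) * Nat.card (U lam ⊓ U (h • lam) : AddSubgroup M) := by
    rw [h3, ← h9, ← h7]
    exact le_of_eq (by ring)
  exact Nat.le_of_mul_le_mul_right h10 hd

/-- `U_μ = [λ, B] + D`, `B = f' A f'⁻¹` -/
theorem u_mu (x : Fy Lam U lam Ah A f h) {u : M} (hu : u ∈ U (h • lam)) :
    ∃ a ∈ A, ∃ d ∈ U lam ⊓ U (h • lam), u = (((h * f) * a * (h * f)⁻¹) • lam - lam) + d := by
  have s := x.i.s
  have h1 : (h * f) • u ∈ U lam := by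
    have := s.conj (h * f) (x.v.mu s) hu
    rwa [x.v.f'_mu s] at this
  rw [← x.card_A.2.1, AddSubgroup.mem_sup] at h1
  obtain ⟨_, ⟨a, ha, rfl⟩, d, hd, h2⟩ := h1
  refine ⟨a, ha, d, hd, ?_⟩
  have h3 : u = (h * f) • (h * f) • u := (f'_f' s x.v u).symm
  have h4 : (h * f) • (a • h • lam - h • lam + d) = u := by rw [h2, ← h3]
  rw [← h4, smul_add, smul_sub_conj, x.v.f'_mu s, x.v.f'_D s hd]

/-- `M = C_M(B) + U_λ` -/
theorem m_eq (x : Fy Lam U lam Ah A f h) (m : M) : ∃ u ∈ U lam, ∃ c : M,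
    (∀ a ∈ A, ((h * f) * a * (h * f)⁻¹) • c = c) ∧ m = u + c := by
  have s := x.i.s
  have h1 : (h * f) • m ∈ U (h • lam) ⊔ cv M A := by
    rw [x.card_A.2.2.1]
    exact AddSubgroup.mem_top _
  rw [AddSubgroup.mem_sup] at h1
  obtain ⟨u, hu, c, hc, h2⟩ := h1
  have h3 : m = (h * f) • (h * f) • m := (f'_f' s x.v m).symm
  refine ⟨(h * f) • u, ?_, (h * f) • c, fun a ha => ?_, by rw [← smul_add, h2, ← h3]⟩
  · have := s.conj (h * f) (x.v.mu s) hu
    rwa [x.v.f'_mu s] at this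
  · rw [mul_smul, inv_smul_smul, mul_smul, hc a ha]

end Fy

/-- `C_M(a) = C_M(A)` for `a ∈ A#` -/
theorem Ih.cv_eq (i : Ih Lam U lam Ah) (hA : A ≤ Ah) (me : ME U lam A) {a : H}
    (ha : a ∈ A) (ha1 : a ≠ 1) {m : M} (hm : a • m = m) : m ∈ cv M A := by
  have s := i.s
  obtain ⟨h, h1, h2, h3⟩ := s.bs i.hl a (me.le ha) ha1
  have x : Fy Lam U lam Ah A a h := ⟨i, hA, me, ⟨i.hl, me.le ha, ha1, h1, h2, h3⟩, ha⟩
  have h4 : m ∈ U (h • lam) ⊔ cv M A := by
    rw [x.card_A.2.2.1]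
    exact AddSubgroup.mem_top m
  rw [AddSubgroup.mem_sup] at h4
  obtain ⟨u, hu, c, hc, rfl⟩ := h4
  rw [smul_add, hc a ha, add_left_inj] at hm
  exact (cv M A).add_mem (le_cv_of_le_bb me.le (x.v.fix s hu hm).2) hc

namespace Fy

/-- for an exact `X`, `A ≤ X ≤ Ah`: `[μ, X] = [μ, A]` -/
theorem cs_eq (x : Fy Lam U lam Ah A f h) (hX : Ex M Ah X) (hAX : A ≤ X) :
    cs (U lam) (h • lam) A x.me.le = cs (U lam) (h • lam) X (hX.le.trans x.i.le) := by
  have y : Fz Lam U lam Ah X f h := ⟨x.i, hX, x.v, hAX x.fA⟩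
  have h2 := card_sup_of_disj y.disj
  have h3 := card_le (sup_le cs_le inf_le_left : cs (U lam) (h • lam) X y.le ⊔ (U lam ⊓ U (h • lam)) ≤ U lam)
  rw [h2, ← x.card_A.1] at h3
  have h4 : cs (U lam) (h • lam) A x.me.le ≤ cs (U lam) (h • lam) X y.le := by
    rintro _ ⟨a, ha, rfl⟩
    exact ⟨a, hAX ha, rfl⟩
  exact eq_of_card_le h4 (by rw [x.card_A.2.2.2]; exact Nat.le_of_mul_le_mul_right h3 Nat.card_pos)

/-- `C_X(μ) = C_X(U_μ)` -/
theorem fix_mu (x : Fy Lam U lam Ah A f h) {e : H} (he : e ∈ Ah) (hm : e • h • lam = h • lam) {u : M}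
    (hu : u ∈ U (h • lam)) : e • u = u := by
  have s := x.i.s
  obtain ⟨a', ha', d, hd, rfl⟩ := x.u_mu hu
  have h11 : (h * f) * a' * (h * f)⁻¹ ∈ (bb (U (h • lam)) : Subgroup H) := by
    have := s.bb_conj (h * f) x.i.hl (x.me.le ha')
    rwa [x.v.f'_lam s] at this
  rw [smul_add, bb_fix (x.i.le he) hd.1, x.z.two_ii he hm h11]

/-- every `b ∈ X` acts on `U_μ` as an element of `A`. -/
theorem four_a (x : Fy Lam U lam Ah A f h) (hX : Ex M Ah X) (hAX : A ≤ X) {b : H} (hb : b ∈ X) :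
    ∃ a ∈ A, ∀ u ∈ U (h • lam), b • u = a • u := by
  have h6 : b • h • lam - h • lam ∈ cs (U lam) (h • lam) A x.me.le := by
    rw [x.cs_eq hX hAX]
    exact ⟨b, hb, rfl⟩
  obtain ⟨a, ha, h7⟩ := h6
  refine ⟨a, ha, fun u hu => ?_⟩
  have h8 : a • h • lam = b • h • lam := sub_left_inj.1 h7
  have h9 : (a⁻¹ * b) • h • lam = h • lam := by rw [mul_smul, ← h8, inv_smul_smul]
  have h10 : (a⁻¹ * b) • u = u :=
    x.fix_mu (Ah.mul_mem (Ah.inv_mem (x.hA ha)) (hX.le hb)) h9 hu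
  rw [mul_smul, inv_smul_eq_iff] at h10
  exact h10

/-- `u ∈ U_μ`, `[u, a] ∈ D` for some `a ∈ A#` implies `u ∈ D`. -/
theorem reg (x : Fy Lam U lam Ah A f h) {a : H} (ha : a ∈ A) (ha1 : a ≠ 1) {u : M} (hu : u ∈ U (h • lam))
    (h1 : a • u - u ∈ U lam ⊓ U (h • lam)) : u ∈ U lam ⊓ U (h • lam) := by
  have s := x.i.s
  have hl := x.i.hl
  obtain ⟨a', ha', d, hd, h2⟩ := x.u_mu hu
  have hz : (h * f) * a' * (h * f)⁻¹ ∈ (bb (U (h • lam)) : Subgroup H) := by
    have := s.bb_conj (h * f) hl (x.me.le ha')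
    rwa [x.v.f'_lam s] at this
  generalize (h * f) * a' * (h * f)⁻¹ = g at h2 hz
  have hla : a • lam = lam := bb_fix (x.me.le ha) (s.mem hl)
  -- `[gλ, a] = [u, a]`
  have h3 : a • u - u = a • g • lam - g • lam := by
    rw [h2, smul_add, smul_sub, hla, bb_fix (x.me.le ha) hd.1]
    abel
  suffices h4 : a • u = u by
    have h5 := x.i.cv_eq x.hA x.me ha ha1 h4
    rw [← x.cvD]
    exact ⟨hu, h5⟩
  by_contra h4
  have h5 : a • g • lam - g • lam ∈ U (g • lam) := by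
    rw [← h3]
    have := s.conj g hl h1.1
    rwa [bb_fix hz h1.2] at this
  have h6 : a • g • lam ∈ U (g • lam) := by
    have := (U (g • lam)).add_mem h5 (s.mem (s.smul g hl))
    rwa [sub_add_cancel] at this
  have h7 : a • g • lam ≠ g • lam := by
    intro h8
    rw [h8, sub_self, sub_eq_zero] at h3
    exact h4 h3
  have h8 := s.coll (s.smul g hl) (s.smul a (s.smul g hl)) h6 h7
  rw [← s.sub_eq, ← h3] at h8
  exact x.z.hT _ (sub_mem_cm (x.hA ha) u) h1 h8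

end Fy

end Cfsg.Agent.Omega.NO3S.TwoMid.Inn.Reg
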