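import Cfsg.Agent.Omega.NO3S.TwoMid.Inn.Reg

/-!
# NO-3S TwoMid: inner pairs, (3) (helper144, bb #18799)

An atom `A ≤ Ah` of order `≥ 4` has `λ ∈ [M, A]`.
-/

set_option autoImplicit false
set_option linter.unusedSectionVars false

namespace Cfsg.Agent.Omega.NO3S.TwoMid.Inn.Three

open Cfsg.Agent.Omega.NOThree.LL.One
open Cfsg.Agent.Omega.NOThree.LL.One.Fx (card_eq_of_smul smul_sub_conj f'_sq card_Z f'_f')
open Cfsg.Agent.Omega.NO3S.TwoMid.Inn.Reg

variable {H : Type*} {M : Type*} [Group H] [AddCommGroup M] [DistribMulAction H M]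
variable [Finite H] [Finite M] {Lam : Set M} {U : M → AddSubgroup M} {lam : M} {Ah A X : Subgroup H} {f h : H}

/-- `A_φ = k A k⁻¹` is an atom of `Ah`, and `A A_φ` is exact. -/
theorem conj_ex (x : Fy Lam U lam Ah A f h) {k : H} (hk : k • lam = lam) (hkA : cj k Ah ≤ Ah) :
    ME U lam (cj k A) ∧ cj k A ≤ Ah ∧ Ex M Ah (A ⊔ cj k A) := by
  have mek := x.me.conj x.i.s x.i.hl hk
  have h1 : cj k A ≤ Ah := (cj_mono x.hA).trans hkA
  exact ⟨mek, h1, (x.i.join ⟨x.hA, x.me.ex⟩ ⟨h1, mek.ex⟩).1⟩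

/-- `A_φ` centralises `U_μ` if `φ ≠ 0` on `[μ, A]`. -/
theorem four (x : Fy Lam U lam Ah A f h) (hn : lam ∉ cm M A) {φ : M →+ ZMod 2} {k : H} (hk : k • lam = lam)
    (hφ : ∀ u ∈ U lam, (φ u = 0 → k • u = u) ∧ (φ u ≠ 0 → k • u = u + lam)) (hkA : cj k Ah ≤ Ah)
    {a₀ : H} (h0 : a₀ ∈ A) (h0' : φ (a₀ • h • lam - h • lam) ≠ 0) {b : H} (hb : b ∈ cj k A) {u : M}
    (hu : u ∈ U (h • lam)) : b • u = u := by
  have s := x.i.s
  have me := x.me
  obtain ⟨mek, hk1, hk2⟩ := conj_ex x hk hkA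
  let A0 : Subgroup H := cj k A ⊓ fixingSubgroup H (U (h • lam) : Set M)
  by_cases h2 : A0 = ⊥
  · have h3 : ∀ b : cj k A, ∃ a : A, ∀ u ∈ U (h • lam), (b : H) • u = (a : H) • u := fun b => by
      obtain ⟨a, ha, h4⟩ := x.four_a hk2 le_sup_left (Subgroup.mem_sup_right b.2)
      exact ⟨⟨a, ha⟩, h4⟩
    choose F hF using h3
    have h4 : Function.Injective F := by
      intro b c hbc
      have h5 : (b : H)⁻¹ * c ∈ A0 := by
        refine ⟨(cj k A).mul_mem ((cj k A).inv_mem b.2) c.2, (mem_fixingSubgroup_iff H).2 fun u hu => ?_⟩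
        rw [mul_smul, hF c u hu, ← hbc, ← hF b u hu, inv_smul_smul]
      rw [h2, Subgroup.mem_bot, inv_mul_eq_one] at h5
      exact Subtype.ext h5
    have h5 : Function.Surjective F := by
      refine (Function.Injective.bijective_of_nat_card_le h4 ?_).2
      rw [card_cj]
    obtain ⟨b0, hb0⟩ := h5 ⟨a₀, h0⟩
    have h6 : (b0 : H) • h • lam = a₀ • h • lam := by
      rw [hF b0 _ (s.mem (x.v.mu s)), hb0]
    have h7 := mem_cj.1 b0.2
    have h8 : (b0 : H) • (h • lam) - h • lam =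
        k • ((k⁻¹ * b0 * k) • (k⁻¹ • h • lam) - k⁻¹ • h • lam) := by
      rw [smul_sub_conj, smul_inv_smul]
      congr 2
      group
    have h9 := sub_mem_cm h7 (k⁻¹ • h • lam)
    have h10 := hφ _ (cm_le_of_le_bb me.le h9)
    rw [h6] at h8
    by_cases h11 : φ ((k⁻¹ * b0 * k) • (k⁻¹ • h • lam) - k⁻¹ • h • lam) = 0
    · rw [h10.1 h11] at h8
      rw [h8] at h0'
      exact absurd h11 h0'
    · rw [h10.2 h11] at h8
      have h12 : lam ∈ cm M A := by
        have h13 := (cm M A).sub_mem (sub_mem_cm h0 (h • lam)) h9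
        rwa [h8, add_sub_cancel_left] at h13
      exact absurd h12 hn
  · obtain ⟨c, hc, hc1⟩ : ∃ c ∈ A0, c ≠ 1 := by
      by_contra h1
      push Not at h1
      exact h2 (eq_bot_iff.2 fun a ha => Subgroup.mem_bot.2 (h1 a ha))
    have h5 : c • u = u := (mem_fixingSubgroup_iff H).1 hc.2 u hu
    exact x.i.cv_eq hk1 mek hc.1 hc1 h5 b hb

/-- (5) of #17614 -/
theorem five (x : Fy Lam U lam Ah A f h) (hn : lam ∉ cm M A) {φ : M →+ ZMod 2} {k : H} (hk : k • lam = lam)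
    (hφ : ∀ u ∈ U lam, (φ u = 0 → k • u = u) ∧ (φ u ≠ 0 → k • u = u + lam)) (hkA : cj k Ah ≤ Ah)
    {a₀ : H} (h0 : a₀ ∈ A) (h0' : φ (a₀ • h • lam - h • lam) ≠ 0)
    (hU : ∀ u ∈ U lam, ∃ r ∈ cm M A, ∃ d ∈ U lam ⊓ U (h • lam), u = k • r + d) : False := by
  have s := x.i.s
  have hl := x.v.hl
  have me := x.me
  have mek := me.conj s hl hk
  have c1 : U lam ≤ cv M (cj k A) := le_cv_of_le_bb mek.le
  have c2 : U (h • lam) ≤ cv M (cj k A) := fun u hu b hb => four x hn hk hφ hkA h0 h0' hb hu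
  -- `C_{B_λ}(C_φ) = A_φ`
  have hX : ∀ e : H, e ∈ (bb (U lam) : Subgroup H) → (∀ c ∈ cv M (cj k A), e • c = c) → e ∈ cj k A := by
    let X : Subgroup H := bb (U lam) ⊓ fixingSubgroup H (cv M (cj k A) : Set M)
    have h1 : cj k A ≤ X := fun e he => ⟨mek.le he, (mem_fixingSubgroup_iff H).2 fun c hc => hc e he⟩
    have h2 := s.no hl X inf_le_left
    have h3 : cv M (cj k A) ≤ cv M X := fun c hc e he => (mem_fixingSubgroup_iff H).1 he.2 c hc
    have h4 : Nat.card X ≤ Nat.card (cj k A) := by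
      have h5 := card_le h3
      have h6 := mek.ex
      have h7 : 0 < Nat.card (cv M (cj k A)) := Nat.card_pos
      refine Nat.le_of_mul_le_mul_right ?_ h7
      rw [h6]
      exact le_trans (Nat.mul_le_mul_left _ h5) h2
    have h5 : cj k A = X := Subgroup.eq_of_le_of_card_ge h1 h4
    intro e he he'
    rw [h5]
    exact ⟨he, (mem_fixingSubgroup_iff H).2 he'⟩
  have hf' : ∀ c ∈ cv M (cj k A), (h * f) • c ∈ cv M (cj k A) := by
    intro c hc
    have h1 := (cv M (cj k A)).add_mem (x.v.f'_sub s c1 c2 c) hc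
    rwa [sub_add_cancel] at h1
  let S : AddSubgroup M := (cm M A).comap (DistribSMul.toAddMonoidHom M (k⁻¹ * (h * f)⁻¹))
  have hS : ∀ v : M, v ∈ S ↔ k⁻¹ • (h * f)⁻¹ • v ∈ cm M A := fun v => by
    rw [← mul_smul]
    exact Iff.rfl
  -- the commutator
  have key : ∀ y ∈ A, ∀ b ∈ cj k A, ∀ m : M,
      ((h * f) * y * (h * f)⁻¹) • (b • m - m) - (b • m - m) ∈ S := by
    intro y hy b hb m
    have hy' : (h * f) * y * (h * f)⁻¹ ∈ (bb (U (h • lam)) : Subgroup H) := by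
      have := s.bb_conj (h * f) hl (me.le hy)
      rwa [x.v.f'_lam s] at this
    generalize (h * f) * y * (h * f)⁻¹ = z at hy'
    have hbm : b • h • lam = h • lam := c2 (s.mem (x.v.mu s)) b hb
    have he1 : b * z * b⁻¹ * z⁻¹ ∈ (bb (U (h • lam)) : Subgroup H) := by
      refine (bb _).mul_mem ?_ ((bb _).inv_mem hy')
      have := s.bb_conj b (x.v.mu s) hy'
      rwa [hbm] at this
    have he2 : ∀ c ∈ cv M (cj k A), (b * z * b⁻¹ * z⁻¹) • c = c := by
      intro c hc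
      have h1 : z⁻¹ • c ∈ cv M (cj k A) := by
        have := (cv M (cj k A)).add_mem (c2 (bb_sub ((bb _).inv_mem hy') c)) hc
        rwa [sub_add_cancel] at this
      rw [mul_smul, mul_smul, mul_smul, h1 _ ((cj k A).inv_mem hb), smul_inv_smul, hc b hb]
    have he3 : (h * f)⁻¹ * (b * z * b⁻¹ * z⁻¹) * (h * f) ∈ cj k A := by
      refine hX _ ?_ fun c hc => ?_
      · have := s.bb_conj (h * f)⁻¹ (x.v.mu s) he1
        rw [inv_inv, f'_sq s x.v, x.v.f'_mu s] at this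
        rw [f'_sq s x.v]
        exact this
      · rw [mul_smul, mul_smul, he2 _ (hf' c hc), inv_smul_smul]
    have he4 : ∀ w : M, (b * z * b⁻¹ * z⁻¹) • w - w ∈ S := by
      intro w
      rw [hS, smul_sub_conj, smul_sub_conj, inv_inv, inv_inv]
      exact sub_mem_cm (mem_cj.1 he3) _
    have h1 := S.neg_mem (he4 (z • b • m))
    have h2 : b • (z • m - m) = z • m - m := c2 (bb_sub hy' m) b hb
    have h3 : -((b * z * b⁻¹ * z⁻¹) • z • b • m - z • b • m) = z • (b • m - m) - (b • m - m) := by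
      rw [mul_smul, mul_smul, mul_smul, inv_smul_smul, inv_smul_smul]
      have h4 : b • z • m = b • m + (z • m - m) := by
        rw [← h2, smul_sub]
        abel
      rw [h4, smul_sub]
      abel
    rwa [h3] at h1
  -- `[M, B] ≤ f' R_φ`
  have h5 : ∀ y ∈ A, ∀ r ∈ cm M A, ((h * f) * y * (h * f)⁻¹) • k • r - k • r ∈ S := by
    intro y hy r hr
    let Q : AddSubgroup M := S.comap ((DistribSMul.toAddMonoidHom M ((h * f) * y * (h * f)⁻¹) -
      AddMonoidHom.id M).comp (DistribSMul.toAddMonoidHom M k))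
    have h6 : cm M A ≤ Q := by
      refine cm_le fun a ha m => ?_
      change ((h * f) * y * (h * f)⁻¹) • k • (a • m - m) - k • (a • m - m) ∈ S
      rw [smul_sub_conj]
      exact key y hy _ (conj_mem_cj ha) _
    exact h6 hr
  have h6 : ∀ y ∈ A, ∀ m : M, ((h * f) * y * (h * f)⁻¹) • m - m ∈ S := by
    intro y hy m
    obtain ⟨u, hu, c, hc, rfl⟩ := x.m_eq m
    obtain ⟨r, hr, d, hd, rfl⟩ := hU u hu
    have hy' : (h * f) * y * (h * f)⁻¹ ∈ (bb (U (h • lam)) : Subgroup H) := by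
      have := s.bb_conj (h * f) hl (me.le hy)
      rwa [x.v.f'_lam s] at this
    have h7 := h5 y hy r hr
    have h8 : ((h * f) * y * (h * f)⁻¹) • (k • r + d + c) - (k • r + d + c) =
        ((h * f) * y * (h * f)⁻¹) • k • r - k • r := by
      rw [smul_add, smul_add, hc y hy, bb_fix hy' hd.2]
      abel
    rw [h8]
    exact h7
  have h7 : ∀ a ∈ A, ∀ m : M, k⁻¹ • (a • m - m) ∈ cm M A := by
    intro a ha m
    have h8 := h6 a ha ((h * f) • m)
    rw [hS, ← smul_sub_conj, inv_smul_smul] at h8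
    exact h8
  have h8 := h7 a₀ h0 (h • lam)
  have h9 := hφ _ (cm_le_of_le_bb me.le h8)
  rw [smul_inv_smul] at h9
  have h10 := sub_mem_cm h0 (h • lam)
  by_cases h11 : φ (k⁻¹ • (a₀ • h • lam - h • lam)) = 0
  · rw [← h9.1 h11] at h11
    exact h0' h11
  · have h12 := h9.2 h11
    have h13 := (cm M A).sub_mem h10 h8
    rw [sub_eq_of_eq_add' h12] at h13
    exact hn h13

/-- **(3)**: `j ≥ 2 ⟹ λ ∈ [M, A]` -/
theorem lam_mem (x : Fy Lam U lam Ah A f h) (hc : 2 < Nat.card A) : lam ∈ cm M A := by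
  by_contra hn
  have s := x.i.s
  have hl := x.v.hl
  have me := x.me
  obtain ⟨-, h1, -, h2⟩ := x.card_A
  have h3 : lam ∈ cs (U lam) (h • lam) A me.le ⊔ (U lam ⊓ U (h • lam)) := by
    rw [h1]
    exact s.mem hl
  rw [AddSubgroup.mem_sup] at h3
  obtain ⟨c1, hc1, d1, hd1, h3⟩ := h3
  -- an element of `[μ, A]` outside `D + ⟨c₁⟩`
  obtain ⟨w, hw, hw'⟩ : ∃ w ∈ cs (U lam) (h • lam) A me.le, w ∉ (U lam ⊓ U (h • lam)) ⊔ AddSubgroup.zmultiples c1 := by
    by_contra h4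
    push Not at h4
    have h5 : cs (U lam) (h • lam) A me.le ≤ AddSubgroup.zmultiples c1 := by
      intro w hw
      have h6 := h4 w hw
      rw [AddSubgroup.mem_sup] at h6
      obtain ⟨d, hd, e, he, h7⟩ := h6
      have h8 : e ∈ cs (U lam) (h • lam) A me.le := by
        rcases mem_zm s he with rfl | rfl
        · exact AddSubgroup.zero_mem _
        · exact hc1
      have h9 : d ∈ cs (U lam) (h • lam) A me.le ⊓ (U lam ⊓ U (h • lam)) := by
        refine ⟨?_, hd⟩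
        have : d = w - e := by rw [← h7, add_sub_cancel_right]
        rw [this]
        exact AddSubgroup.sub_mem _ hw h8
      rw [x.disj, AddSubgroup.mem_bot] at h9
      rw [← h7, h9, zero_add]
      exact he
    have h6 := card_le h5
    rw [h2, Nat.card_zmultiples] at h6
    have h7 : addOrderOf c1 ≤ 2 := by
      refine Nat.le_of_dvd (by norm_num) ?_
      rw [addOrderOf_dvd_iff_nsmul_eq_zero, two_nsmul]
      exact s.two c1
    omega
  obtain ⟨φ, h4, h5⟩ := exists_fun s.two hw'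
  have hd : ∀ d ∈ U lam ⊓ U (h • lam), φ d = 0 := fun d hd => h4 d (AddSubgroup.mem_sup_left hd)
  have hc1' : φ c1 = 0 := h4 c1 (AddSubgroup.mem_sup_right (AddSubgroup.mem_zmultiples c1))
  have hlam : φ lam = 0 := by rw [← h3, map_add, hc1', hd d1 hd1, add_zero]
  obtain ⟨k, hk, hφ, hkA⟩ := x.i.J φ hlam
  obtain ⟨a₀, h0, rfl⟩ := hw
  refine five x hn hk hφ hkA h0 (by rw [h5]; decide) fun u hu => ?_
  rw [← h1, AddSubgroup.mem_sup] at hu
  obtain ⟨c, hc, d, hd', rfl⟩ := hu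
  by_cases h6 : φ c = 0
  · exact ⟨c, cs_le_cm hc, d, hd', by rw [(hφ c (cs_le hc)).1 h6]⟩
  · refine ⟨c + c1, (cm M A).add_mem (cs_le_cm hc) (cs_le_cm hc1), d + d1, AddSubgroup.add_mem _ hd' hd1, ?_⟩
    have h7 : φ (c + c1) ≠ 0 := by rw [map_add, hc1', add_zero]; exact h6
    rw [(hφ _ ((U lam).add_mem (cs_le hc) (cs_le hc1))).2 h7]
    have h8 : c + c1 + lam + (d + d1) = c + d + (c1 + c1) + (d1 + d1) := by
      rw [← h3]
      abel
    rw [h8, s.two, s.two, add_zero, add_zero]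

end Cfsg.Agent.Omega.NO3S.TwoMid.Inn.Three
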