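import Cfsg.Agent.Omega.NO3S.TwoMid.Inn.Fat

/-!
# NO-3S TwoMid: the END without THEOREM T (helper338, bb #19334): transvections of a finite linear group over `F₂`

`Tr t c φ` : `t m = m + φ(m) c`, `φ(c) = 0`, `c ≠ 0`, `φ ≠ 0`; `Nb t t'` (neighbours): `φ(c') = φ'(c) = 1`.

* `Nb.braid` : `(t t') t (t t')⁻¹ = t'`;
* `Tr.exists_nb` : every transvection has a neighbour, if every involution inverts an element `≠ 1` of odd order;
* `Tr.kc` (K) : non-commuting transvections lie in one component `Cp` of the neighbour graph;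
* `Lk` : a linked pair `t, t₂ ∈ Ah` with centres `c + d = λ`; `Lk.nb` (N), `Lk.mover` (C), `Lk.not_cp`, `Lk.cross`.
-/

set_option autoImplicit false
set_option linter.unusedSectionVars false

namespace Cfsg.Agent.Omega.NO3S.TwoMid.Inn.Cmp

open Cfsg.Agent.Omega.NOThree.LL.One
open Cfsg.Agent.Omega.NO3S.TwoMid.Inn.Reg

variable {H : Type*} {M : Type*} [Group H] [AddCommGroup M] [DistribMulAction H M]

theorem zc (x : ZMod 2) : x = 0 ∨ x = 1 := by
  revert x; decide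

/-- `x c`, `x ∈ F₂` -/
def sc (x : ZMod 2) (c : M) : M := if x = 0 then 0 else c

theorem sc_zero (c : M) : sc 0 c = 0 := if_pos rfl

theorem sc_one (c : M) : sc 1 c = c := if_neg one_ne_zero

theorem smul_sc (h : H) (x : ZMod 2) (c : M) : h • sc x c = sc x (h • c) := by
  rcases zc x with rfl | rfl
  · rw [sc_zero, sc_zero, smul_zero]
  · rw [sc_one, sc_one]

theorem map_sc (φ : M →+ ZMod 2) (x : ZMod 2) (c : M) : φ (sc x c) = x * φ c := by
  rcases zc x with rfl | rfl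
  · rw [sc_zero, map_zero, zero_mul]
  · rw [sc_one, one_mul]

theorem sc_eq_zero {x : ZMod 2} {c : M} (hc : c ≠ 0) : sc x c = 0 ↔ x = 0 := by
  rcases zc x with rfl | rfl
  · rw [sc_zero]; simp
  · rw [sc_one]; exact ⟨fun h => absurd h hc, fun h => absurd h one_ne_zero⟩

variable (H M) in
/-- faithful over `F₂` -/
structure Fa : Prop where
  two : ∀ m : M, m + m = 0
  faith : ∀ h : H, (∀ m : M, h • m = m) → h = 1

theorem ext_of (F : Fa H M) {a b : H} (h : ∀ m : M, a • m = b • m) : a = b := by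
  have h1 : b⁻¹ * a = 1 := F.faith _ fun m => by rw [mul_smul, h, inv_smul_smul]
  exact (inv_mul_eq_one.1 h1).symm

/-- `φ ∘ g⁻¹` -/
def cf (g : H) (φ : M →+ ZMod 2) : M →+ ZMod 2 := φ.comp (DistribSMul.toAddMonoidHom M g⁻¹)

theorem cf_apply (g : H) (φ : M →+ ZMod 2) (m : M) : cf g φ m = φ (g⁻¹ • m) := rfl

/-- transvection -/
structure Tr (t : H) (c : M) (φ : M →+ ZMod 2) : Prop where
  act : ∀ m : M, t • m = m + sc (φ m) c
  c0 : c ≠ 0
  fc : φ c = 0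
  ne : ∃ m, φ m = 1

variable {t t' x y g : H} {c c' c₁ c₂ m : M} {φ φ' f₁ f₂ : M →+ ZMod 2}

namespace Tr

theorem map (a : Tr t c φ) (m : M) : φ (t • m) = φ m := by
  rw [a.act, map_add, map_sc, a.fc, mul_zero, add_zero]

theorem smul_c (a : Tr t c φ) : t • c = c := by rw [a.act, a.fc, sc_zero, add_zero]

theorem fix_iff (a : Tr t c φ) : t • m = m ↔ φ m = 0 := by
  rw [a.act, add_eq_left, sc_eq_zero a.c0]

theorem sq (F : Fa H M) (a : Tr t c φ) : t * t = 1 := ext_of F fun m => by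
  rw [mul_smul, a.act (t • m), a.map, a.act m, one_smul, add_assoc, F.two, add_zero]

theorem inv (F : Fa H M) (a : Tr t c φ) : t⁻¹ = t := inv_eq_of_mul_eq_one_left (a.sq F)

theorem ne_one (a : Tr t c φ) : t ≠ 1 := by
  rintro rfl
  obtain ⟨m, hm⟩ := a.ne
  have h1 := a.fix_iff.1 (one_smul H m)
  rw [hm] at h1
  exact one_ne_zero h1

theorem conj (a : Tr t c φ) (g : H) : Tr (g * t * g⁻¹) (g • c) (cf g φ) where
  act m := by rw [mul_smul, mul_smul, a.act, smul_add, smul_inv_smul, smul_sc, cf_apply]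
  c0 := fun h => a.c0 ((smul_eq_zero_iff_eq g).1 h)
  fc := by rw [cf_apply, inv_smul_smul, a.fc]
  ne := by
    obtain ⟨m, hm⟩ := a.ne
    exact ⟨g • m, by rw [cf_apply, inv_smul_smul, hm]⟩

theorem uniq (a : Tr t c φ) (b : Tr t c' φ') : c = c' ∧ φ = φ' := by
  have key : ∀ m, sc (φ m) c = sc (φ' m) c' := fun m => add_left_cancel ((a.act m).symm.trans (b.act m))
  have h1 : c = c' := by
    obtain ⟨m, hm⟩ := a.ne
    have h2 := key m
    rw [hm, sc_one] at h2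
    rcases zc (φ' m) with h3 | h3 <;> rw [h3] at h2
    · rw [sc_zero] at h2; exact absurd h2 a.c0
    · rwa [sc_one] at h2
  subst h1
  refine ⟨rfl, AddMonoidHom.ext fun m => ?_⟩
  have h2 := key m
  rcases zc (φ m) with h3 | h3 <;> rcases zc (φ' m) with h4 | h4 <;> rw [h3, h4] at h2 ⊢
  · rw [sc_zero, sc_one] at h2; exact absurd h2.symm a.c0
  · rw [sc_zero, sc_one] at h2; exact absurd h2 a.c0

theorem eq (F : Fa H M) (a : Tr t c φ) (b : Tr t' c φ) : t = t' := ext_of F fun m => by rw [a.act, b.act]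

/-- `g` commutes with `t`: it fixes the centre and the functional -/
theorem cfix (a : Tr t c φ) (h : g * t = t * g) : g • c = c ∧ ∀ m, φ (g • m) = φ m := by
  have e : g * t * g⁻¹ = t := by rw [h, mul_inv_cancel_right]
  have h1 := a.conj g
  rw [e] at h1
  have h2 := h1.uniq a
  refine ⟨h2.1, fun m => ?_⟩
  have h3 := DFunLike.congr_fun h2.2 (g • m)
  rw [cf_apply, inv_smul_smul] at h3
  exact h3.symm

theorem of_comm (a : Tr t c φ) (b : Tr t' c' φ') (h : t * t' = t' * t) : φ c' = 0 ∧ φ' c = 0 :=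
  ⟨a.fix_iff.1 (b.cfix h).1, b.fix_iff.1 (a.cfix h.symm).1⟩

theorem comm_of (F : Fa H M) (a : Tr t c φ) (b : Tr t' c' φ') (h1 : φ c' = 0) (h2 : φ' c = 0) : t * t' = t' * t := by
  refine ext_of F fun m => ?_
  rw [mul_smul, mul_smul, a.act (t' • m), b.act m, b.act (t • m), a.act m, map_add, map_add, map_sc, map_sc, h1, h2,
    mul_zero, mul_zero, add_zero, add_zero, add_right_comm]

end Tr

/-! ### neighbours -/

variable (M) in
/-- neighbours -/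
def Nb (t t' : H) : Prop := ∃ (c c' : M) (φ φ' : M →+ ZMod 2), Tr t c φ ∧ Tr t' c' φ' ∧ φ c' = 1 ∧ φ' c = 1

theorem Nb.symm (h : Nb M t t') : Nb M t' t := by
  obtain ⟨c, c', φ, φ', a, b, h1, h2⟩ := h
  exact ⟨c', c, φ', φ, b, a, h2, h1⟩

theorem Nb.get (h : Nb M t t') (a : Tr t c φ) : ∃ (c' : M) (φ' : M →+ ZMod 2), Tr t' c' φ' ∧ φ c' = 1 ∧ φ' c = 1 := by
  obtain ⟨c₁, c', φ₁, φ', a', b, h1, h2⟩ := h
  obtain ⟨rfl, rfl⟩ := a.uniq a'
  exact ⟨c', φ', b, h1, h2⟩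

theorem Nb.conj (h : Nb M t t') (g : H) : Nb M (g * t * g⁻¹) (g * t' * g⁻¹) := by
  obtain ⟨c, c', φ, φ', a, b, h1, h2⟩ := h
  exact ⟨_, _, _, _, a.conj g, b.conj g, by rw [cf_apply, inv_smul_smul, h1], by rw [cf_apply, inv_smul_smul, h2]⟩

theorem Nb.not_comm (h : Nb M t t') : t * t' ≠ t' * t := by
  obtain ⟨c, c', φ, φ', a, b, h1, h2⟩ := h
  intro h3
  have h4 := (a.of_comm b h3).1
  rw [h1] at h4
  exact one_ne_zero h4

/-- `t t' c = c'`, `t' t c = c + c'` -/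
theorem act_c (F : Fa H M) (a : Tr t c φ) (b : Tr t' c' φ') (h1 : φ c' = 1) (h2 : φ' c = 1) :
    (t * t') • c = c' ∧ (t' * t) • c = c + c' := by
  constructor
  · rw [mul_smul, b.act, h2, sc_one, smul_add, a.smul_c, a.act, h1, sc_one, add_comm c' c, ← add_assoc, F.two,
      zero_add]
  · rw [mul_smul, a.smul_c, b.act, h2, sc_one]

theorem Nb.braid (F : Fa H M) (h : Nb M t t') : t * t' * t * (t * t')⁻¹ = t' := by
  obtain ⟨c, c', φ, φ', a, b, h1, h2⟩ := h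
  have h3 := a.conj (t * t')
  rw [(act_c F a b h1 h2).1] at h3
  have h4 : cf (t * t') φ = φ' := by
    refine AddMonoidHom.ext fun m => ?_
    rw [cf_apply, mul_inv_rev, a.inv F, b.inv F, mul_smul, b.act, map_add, map_sc, h1, mul_one, a.map, a.act, map_add,
      map_sc, h2, mul_one]
    rcases zc (φ m) with e | e <;> rcases zc (φ' m) with e' | e' <;> rw [e, e'] <;> decide
  rw [h4] at h3
  exact h3.eq F b

theorem Nb.braid' (F : Fa H M) (h : Nb M t t') : (t * t')⁻¹ * t' * (t * t') = t := by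
  have h1 := h.braid F
  calc (t * t')⁻¹ * t' * (t * t') = (t * t')⁻¹ * (t * t' * t * (t * t')⁻¹) * (t * t') := by rw [h1]
    _ = t := by group

/-- `(t t')³ = 1` -/
theorem Nb.cube (F : Fa H M) (h : Nb M t t') : (t * t') ^ 3 = 1 := by
  have h1 := h.braid F
  obtain ⟨c, c', φ, φ', a, b, -, -⟩ := h
  rw [mul_inv_rev, a.inv F, b.inv F] at h1
  calc (t * t') ^ 3 = (t * t' * t * (t' * t)) * t' := by rw [pow_succ, pow_two]; group
    _ = 1 := by rw [h1, b.sq F]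

variable (H) in
/-- every involution inverts an element `≠ 1` of odd order -/
def BS : Prop := ∀ f : H, f * f = 1 → f ≠ 1 → ∃ h : H, h ≠ 1 ∧ Odd (orderOf h) ∧ f * h * f⁻¹ = h⁻¹

theorem eq_one_of_pow_four {h : H} (ho : Odd (orderOf h)) (h4 : h * h * (h * h) = 1) : h = 1 :=
  Subgroup.mem_bot.1 (mem_of_sq ho (T := ⊥) (mem_of_sq (h := h * h) (by
    rw [← pow_two, Nat.Coprime.orderOf_pow (Nat.Coprime.symm (Nat.coprime_two_left.2 ho))]
    exact ho) (T := ⊥) (Subgroup.mem_bot.2 h4)))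

/-- every transvection has a neighbour -/
theorem Tr.exists_nb (F : Fa H M) (bs : BS H) (a : Tr t c φ) : ∃ t', Nb M t t' := by
  obtain ⟨h, h1, ho, h2⟩ := bs t (a.sq F) a.ne_one
  have ht := a.inv F
  have e1 : t * h⁻¹ = h * t := by
    have e := congrArg (·⁻¹) h2
    simp only [mul_inv_rev, inv_inv] at e
    calc t * h⁻¹ = t * (h⁻¹ * t⁻¹) * t := by group
      _ = h * t := by rw [e]
  have b := a.conj h⁻¹
  rw [inv_inv] at b
  have e2 : t * (h⁻¹ * t * h) = h * h := by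
    calc t * (h⁻¹ * t * h) = (t * h⁻¹) * t * h := by group
      _ = h * (t * t) * h := by rw [e1]; group
      _ = h * h := by rw [a.sq F, mul_one]
  have e3 : φ (h⁻¹ • c) = cf h⁻¹ φ c := by
    rw [cf_apply, inv_inv, ← h2, mul_smul, mul_smul, ht, a.smul_c, a.map]
  rcases zc (φ (h⁻¹ • c)) with e4 | e4
  · exfalso
    have h3 := a.comm_of F b e4 (e3 ▸ e4)
    apply h1
    apply eq_one_of_pow_four ho
    rw [← e2]
    calc t * (h⁻¹ * t * h) * (t * (h⁻¹ * t * h)) = t * ((h⁻¹ * t * h) * t) * (h⁻¹ * t * h) := by group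
      _ = t * t * ((h⁻¹ * t * h) * (h⁻¹ * t * h)) := by rw [← h3]; group
      _ = t * t * (h⁻¹ * (t * t) * h) := by group
      _ = 1 := by rw [a.sq F]; group
  · exact ⟨_, _, _, _, _, a, b, e4, e3 ▸ e4⟩

/-! ### (K) -/

theorem add_sc_cases {a b : ZMod 2} : a + b = 0 ↔ a = b := by
  rcases zc a with rfl | rfl <;> rcases zc b with rfl | rfl <;> decide

/-- the commutator of a mixed pair is a transvection -/
theorem Tr.mix (F : Fa H M) (a : Tr x c₁ f₁) (b : Tr y c₂ f₂) (h1 : f₁ c₂ = 1) (h2 : f₂ c₁ = 0) :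
    Tr (x * y * x⁻¹ * y⁻¹) c₁ f₂ where
  act m := by
    rw [b.inv F]
    have e1 : ∀ m, f₂ (x⁻¹ • m) = f₂ m := by
      intro m
      rw [a.inv F, a.act, map_add, map_sc, h2, mul_zero, add_zero]
    have e2 : x • c₂ = c₂ + c₁ := by rw [a.act, h1, sc_one]
    rw [mul_smul, b.act, (b.conj x).act, cf_apply, e1, map_add, map_sc, b.fc, mul_zero, add_zero, e2]
    rcases zc (f₂ m) with e | e <;> rw [e]
    · simp only [sc_zero, add_zero]
    · simp only [sc_one]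
      rw [add_assoc, ← add_assoc c₂, F.two, zero_add]
  c0 := a.c0
  fc := h2
  ne := b.ne

/-- a mixed pair has a common neighbour -/
theorem Tr.mixed (F : Fa H M) (bs : BS H) (a : Tr x c₁ f₁) (b : Tr y c₂ f₂) (h1 : f₁ c₂ = 1) (h2 : f₂ c₁ = 0) :
    ∃ w, Nb M x w ∧ Nb M w y := by
  have hz := a.mix F b h1 h2
  obtain ⟨w₀, hw₀⟩ := hz.exists_nb F bs
  obtain ⟨c₀, f₀, k₀, h3, h4⟩ := hw₀.get hz
  -- `f₁ c₃ = 1`
  have s1 : ∃ (w : H) (c₃ : M) (f₃ : M →+ ZMod 2), Tr w c₃ f₃ ∧ f₂ c₃ = 1 ∧ f₃ c₁ = 1 ∧ f₁ c₃ = 1 := by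
    rcases zc (f₁ c₀) with e | e
    · refine ⟨_, _, _, k₀.conj y, ?_, ?_, ?_⟩
      · rw [b.map, h3]
      · rw [cf_apply, b.inv F, b.act, h2, sc_zero, add_zero, h4]
      · rw [b.act, h3, sc_one, map_add, e, h1, zero_add]
    · exact ⟨w₀, c₀, f₀, k₀, h3, h4, e⟩
  obtain ⟨w, c₃, f₃, k, h5, h6, h7⟩ := s1
  rcases zc (f₃ c₂) with e | e
  · refine ⟨x * w * x⁻¹, ⟨_, _, _, _, a, k.conj x, ?_, ?_⟩, ⟨_, _, _, _, k.conj x, b, ?_, ?_⟩⟩
    · rw [a.map, h7]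
    · rw [cf_apply, a.inv F, a.smul_c, h6]
    · rw [cf_apply, a.inv F, a.act, h1, sc_one, map_add, e, h6, zero_add]
    · rw [a.act, h7, sc_one, map_add, h5, h2, add_zero]
  · exact ⟨w, ⟨_, _, _, _, a, k, h7, h6⟩, ⟨_, _, _, _, k, b, e, h5⟩⟩

variable (M) in
/-- components of the neighbour graph -/
def Cp (t t' : H) : Prop := Relation.ReflTransGen (Nb M) t t'

theorem Cp.refl (t : H) : Cp M t t := Relation.ReflTransGen.refl

theorem Cp.trans {a b c : H} (h : Cp M a b) (h' : Cp M b c) : Cp M a c := Relation.ReflTransGen.trans h h'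

theorem Nb.cp (h : Nb M t t') : Cp M t t' := Relation.ReflTransGen.single h

theorem Cp.symm (h : Cp M t t') : Cp M t' t := by
  induction h with
  | refl => exact Cp.refl _
  | tail _ h2 ih => exact h2.symm.cp.trans ih

theorem Cp.tr (h : Cp M t t') (a : Tr t c φ) : ∃ (c' : M) (φ' : M →+ ZMod 2), Tr t' c' φ' := by
  induction h with
  | refl => exact ⟨c, φ, a⟩
  | tail _ h2 _ =>
    obtain ⟨c₁, c₂, f₁, f₂, -, b, -, -⟩ := h2
    exact ⟨c₂, f₂, b⟩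

/-- **(K)** -/
theorem Tr.kc (F : Fa H M) (bs : BS H) (a : Tr x c₁ f₁) (b : Tr y c₂ f₂) (h : f₁ c₂ = 1 ∨ f₂ c₁ = 1) : Cp M x y := by
  rcases zc (f₁ c₂) with h1 | h1 <;> rcases zc (f₂ c₁) with h2 | h2
  · exfalso
    rcases h with h | h
    · rw [h1] at h; exact zero_ne_one h
    · rw [h2] at h; exact zero_ne_one h
  · obtain ⟨w, h3, h4⟩ := b.mixed F bs a h2 h1
    exact (h3.cp.trans h4.cp).symm
  · obtain ⟨w, h3, h4⟩ := a.mixed F bs b h1 h2
    exact h3.cp.trans h4.cp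
  · exact Nb.cp ⟨_, _, _, _, a, b, h1, h2⟩

/-- (K), contrapositive -/
theorem Tr.comm_of_not_cp (F : Fa H M) (bs : BS H) (a : Tr x c₁ f₁) (b : Tr y c₂ f₂) (h : ¬ Cp M x y) :
    (f₁ c₂ = 0 ∧ f₂ c₁ = 0) ∧ x * y = y * x := by
  have h1 : f₁ c₂ = 0 := (zc _).resolve_right fun e => h (a.kc F bs b (Or.inl e))
  have h2 : f₂ c₁ = 0 := (zc _).resolve_right fun e => h (a.kc F bs b (Or.inr e))
  exact ⟨⟨h1, h2⟩, a.comm_of F b h1 h2⟩

/-! ### linked pairs -/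

variable [Finite H] [Finite M] {Lam : Set M} {U : M → AddSubgroup M} {lam : M} {Ah : Subgroup H} {t₂ : H} {d : M}
  {ψ : M →+ ZMod 2}

theorem fa (s : Sys H Lam U) : Fa H M := ⟨s.two, s.faith⟩

/-- the centre of a transvection in `B(X)` lies in `X` -/
theorem Tr.c_mem {X : AddSubgroup M} (a : Tr t c φ) (h : t ∈ (bb X : Subgroup H)) : c ∈ X := by
  obtain ⟨m, hm⟩ := a.ne
  have h1 := bb_sub h m
  rwa [a.act, hm, sc_one, add_sub_cancel_left] at h1

theorem Tr.f_zero {X : AddSubgroup M} (a : Tr t c φ) (h : t ∈ (bb X : Subgroup H)) {u : M} (hu : u ∈ X) : φ u = 0 :=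
  a.fix_iff.1 (bb_fix h hu)

/-- a linked pair -/
structure Lk (Lam : Set M) (U : M → AddSubgroup M) (lam : M) (Ah : Subgroup H) (t t₂ : H) (c d : M)
    (φ ψ : M →+ ZMod 2) : Prop where
  i : Ih Lam U lam Ah
  ht : t ∈ Ah
  ht₂ : t₂ ∈ Ah
  a : Tr t c φ
  b : Tr t₂ d ψ
  sum : c + d = lam

namespace Lk

theorem symm (l : Lk Lam U lam Ah t t₂ c d φ ψ) : Lk Lam U lam Ah t₂ t d c ψ φ :=
  ⟨l.i, l.ht₂, l.ht, l.b, l.a, by rw [add_comm, l.sum]⟩

theorem F (l : Lk Lam U lam Ah t t₂ c d φ ψ) : Fa H M := fa l.i.s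

theorem bt (l : Lk Lam U lam Ah t t₂ c d φ ψ) : t ∈ (bb (U lam) : Subgroup H) := l.i.le l.ht

theorem bt₂ (l : Lk Lam U lam Ah t t₂ c d φ ψ) : t₂ ∈ (bb (U lam) : Subgroup H) := l.i.le l.ht₂

theorem cU (l : Lk Lam U lam Ah t t₂ c d φ ψ) : c ∈ U lam := l.a.c_mem l.bt

theorem dU (l : Lk Lam U lam Ah t t₂ c d φ ψ) : d ∈ U lam := l.b.c_mem l.bt₂

theorem comm (l : Lk Lam U lam Ah t t₂ c d φ ψ) : t * t₂ = t₂ * t := l.i.comm l.ht l.ht₂

theorem φ_lam (l : Lk Lam U lam Ah t t₂ c d φ ψ) : φ lam = 0 := l.a.f_zero l.bt (l.i.s.mem l.i.hl)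

theorem ψ_lam (l : Lk Lam U lam Ah t t₂ c d φ ψ) : ψ lam = 0 := l.b.f_zero l.bt₂ (l.i.s.mem l.i.hl)

theorem φ_d (l : Lk Lam U lam Ah t t₂ c d φ ψ) : φ d = 0 := l.a.f_zero l.bt l.dU

theorem ψ_c (l : Lk Lam U lam Ah t t₂ c d φ ψ) : ψ c = 0 := l.b.f_zero l.bt₂ l.cU

/-- **(N)** -/
theorem nb (l : Lk Lam U lam Ah t t₂ c d φ ψ) (b : Tr t' c' φ') (h1 : φ c' = 1) (h2 : φ' c = 1) :
    φ' lam = 1 ∧ φ' d = 0 ∧ ψ c' = 0 := by
  have s := l.i.s
  have hl := l.i.hl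
  have hφ : φ' lam = 1 := by
    refine (zc _).resolve_left fun h3 => ?_
    have h4 : t' • lam = lam := b.fix_iff.2 h3
    have h5 := s.bb_conj t' hl l.bt
    rw [h4] at h5
    have h6 := (l.a.conj t').c_mem h5
    have h7 := l.a.f_zero l.bt h6
    rw [b.act, h2, sc_one, map_add, l.a.fc, h1, zero_add] at h7
    exact one_ne_zero h7
  have hd : φ' d = 0 := by
    have h3 := hφ
    rw [← l.sum, map_add, h2] at h3
    rcases zc (φ' d) with e | e
    · exact e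
    · rw [e] at h3; exact absurd h3 (by decide)
  refine ⟨hφ, hd, ?_⟩
  -- `ν = t' λ`
  have h3 : t' • lam = lam + c' := by rw [b.act, hφ, sc_one]
  have h4 : d ∈ U (t' • lam) := by
    have h5 := s.conj t' hl l.dU
    rwa [b.fix_iff.2 hd] at h5
  have h5 : t₂ • (t' • lam) = t' • lam := by
    refine Fat.dstar l.i l.ht₂ (s.smul t' hl) ?_
    rw [l.b.act, add_sub_cancel_left]
    rcases zc (ψ (t' • lam)) with e | e <;> rw [e]
    · rw [sc_zero]; exact AddSubgroup.zero_mem _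
    · rw [sc_one]; exact h4
  have h6 := l.b.fix_iff.1 h5
  rwa [h3, map_add, l.ψ_lam, zero_add] at h6

/-- **(C)** -/
theorem mover (l : Lk Lam U lam Ah t t₂ c d φ ψ) {τ : H} (h : Cp M t τ) : ∃ g : H, g * t₂ = t₂ * g ∧ g * t * g⁻¹ = τ := by
  induction h with
  | refl => exact ⟨1, by group, by group⟩
  | @tail τ τ' _ h2 ih =>
    obtain ⟨g, hg, rfl⟩ := ih
    have h3 := h2.conj g⁻¹
    have e : g⁻¹ * (g * t * g⁻¹) * g⁻¹⁻¹ = t := by group
    rw [e] at h3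
    obtain ⟨c', φ', b, k1, k2⟩ := h3.get l.a
    obtain ⟨-, k3, k4⟩ := l.nb b k1 k2
    have h4 := b.comm_of l.F l.b k3 k4
    have h5 : τ' * t₂ = t₂ * τ' := by
      have e1 : g * (g⁻¹ * τ' * g⁻¹⁻¹) * g⁻¹ = τ' := by group
      have e2 : g * t₂ * g⁻¹ = t₂ := by rw [hg, mul_inv_cancel_right]
      calc τ' * t₂ = (g * (g⁻¹ * τ' * g⁻¹⁻¹) * g⁻¹) * (g * t₂ * g⁻¹) := by rw [e1, e2]
        _ = g * ((g⁻¹ * τ' * g⁻¹⁻¹) * t₂) * g⁻¹ := by group
        _ = (g * t₂ * g⁻¹) * (g * (g⁻¹ * τ' * g⁻¹⁻¹) * g⁻¹) := by rw [h4]; group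
        _ = t₂ * τ' := by rw [e1, e2]
    have h6 := h2.braid l.F
    have h7 : (g * t * g⁻¹) * t₂ = t₂ * (g * t * g⁻¹) := by
      have e2 : g * t₂ * g⁻¹ = t₂ := by rw [hg, mul_inv_cancel_right]
      calc (g * t * g⁻¹) * t₂ = (g * t * g⁻¹) * (g * t₂ * g⁻¹) := by rw [e2]
        _ = g * (t * t₂) * g⁻¹ := by group
        _ = (g * t₂ * g⁻¹) * (g * t * g⁻¹) := by rw [l.comm]; group
        _ = _ := by rw [e2]
    refine ⟨g * t * g⁻¹ * τ' * g, ?_, ?_⟩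
    · calc g * t * g⁻¹ * τ' * g * t₂ = g * t * g⁻¹ * τ' * (g * t₂) := by group
        _ = g * t * g⁻¹ * (τ' * t₂) * g := by rw [hg]; group
        _ = (g * t * g⁻¹ * t₂) * τ' * g := by rw [h5]; group
        _ = t₂ * (g * t * g⁻¹ * τ' * g) := by rw [h7]; group
    · calc g * t * g⁻¹ * τ' * g * t * (g * t * g⁻¹ * τ' * g)⁻¹ =
          (g * t * g⁻¹) * τ' * (g * t * g⁻¹) * ((g * t * g⁻¹) * τ')⁻¹ := by group
        _ = τ' := h6

theorem comm_cp (l : Lk Lam U lam Ah t t₂ c d φ ψ) {τ : H} (h : Cp M t τ) : τ * t₂ = t₂ * τ := by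
  obtain ⟨g, hg, rfl⟩ := l.mover h
  have e2 : g * t₂ * g⁻¹ = t₂ := by rw [hg, mul_inv_cancel_right]
  calc (g * t * g⁻¹) * t₂ = (g * t * g⁻¹) * (g * t₂ * g⁻¹) := by rw [e2]
    _ = g * (t * t₂) * g⁻¹ := by group
    _ = (g * t₂ * g⁻¹) * (g * t * g⁻¹) := by rw [l.comm]; group
    _ = _ := by rw [e2]

/-- **(P1)** -/
theorem not_cp (l : Lk Lam U lam Ah t t₂ c d φ ψ) (bs : BS H) : ¬ Cp M t t₂ := by
  intro h
  obtain ⟨w, hw⟩ := l.b.exists_nb l.F bs
  exact hw.not_comm (l.comm_cp (h.trans hw.cp)).symm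

/-- different components commute -/
theorem cross (l : Lk Lam U lam Ah t t₂ c d φ ψ) (bs : BS H) {τ σ : H} (h1 : Cp M t τ) (h2 : Cp M t₂ σ) :
    τ * σ = σ * τ := by
  obtain ⟨c₁, f₁, a₁⟩ := h1.tr l.a
  obtain ⟨c₂, f₂, a₂⟩ := h2.tr l.b
  exact (a₁.comm_of_not_cp l.F bs a₂ fun h => l.not_cp bs ((h1.trans h).trans h2.symm)).2

end Lk

end Cfsg.Agent.Omega.NO3S.TwoMid.Inn.Cmp
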